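import Cfsg.Agent.Lib.ReeType.Psl
import Cfsg.Agent.Lib.ClassicalGroups.SL2
import Cfsg.Agent.Lib.SL2Tori.Sylow
import Cfsg.Agent.Lib.PSL2.Basic

/-!
# `PSL₂(q)`, `q` an odd power of three: tori, inverting involutions, the Borel torus
-/

set_option autoImplicit false
set_option linter.unusedSectionVars false

namespace CfsgLib.ReeAbelian.L2

open Matrix Cfsg
open CfsgLib.SL2Tori CfsgLib.Schur CfsgLib.Characters CfsgLib.SL2Char CfsgLib.ReeType

variable {F : Type} [Field F] [Fintype F] [DecidableEq F] [CharP F 3]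

local notation "SL2" => Matrix.SpecialLinearGroup (Fin 2) F
local notation "PSL2" => Matrix.ProjectiveSpecialLinearGroup (Fin 2) F

theorem two_mul_card (h8 : Fintype.card F % 8 = 3) :
    2 * Nat.card PSL2 = (Fintype.card F + 1) * (Fintype.card F * (Fintype.card F - 1)) := by
  have h := CfsgLib.PSL2.card_psl (F := F)
  rwa [show Nat.gcd 2 (Fintype.card F - 1) = 2 from
    Nat.gcd_eq_left (Nat.dvd_of_mod_eq_zero (by omega))] at h

/-- Elements of two-power order square to one. -/
theorem sq_one_of_two_pow (h8 : Fintype.card F % 8 = 3) {i : PSL2} {k : ℕ} (h : i ^ (2 ^ k) = 1) :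
    i * i = 1 := by
  have : Fact (Nat.Prime 2) := ⟨Nat.prime_two⟩
  obtain ⟨j, -, hj⟩ := (Nat.dvd_prime_pow Nat.prime_two).1 (orderOf_dvd_of_pow_eq_one h)
  have hp : IsPGroup 2 (Subgroup.zpowers i) := IsPGroup.of_card (n := j) (by rw [Nat.card_zpowers, hj])
  obtain ⟨T, hT⟩ := hp.exists_le_sylow
  have hk := CfsgLib.ClassicalGroups.SL2.psl_sylow_two_klein rfl (Or.inl h8) T
  have he := Monoid.pow_exponent_eq_one (⟨i, hT (Subgroup.mem_zpowers i)⟩ : (T : Subgroup PSL2))
  rw [hk.exponent_two] at he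
  simpa [pow_two] using congrArg Subtype.val he

omit [DecidableEq F] [CharP F 3] in
theorem neg_one_nonsquare (h8 : Fintype.card F % 8 = 3) (a : F) : a * a ≠ -1 := fun e => by
  have : IsSquare (-1 : F) := ⟨a, e.symm⟩
  rw [FiniteField.isSquare_neg_one_iff] at this
  omega

/-- The image of an upper unitriangular matrix. -/
def upper (x : F) : PSL2 := prj (bEl (1 : Fˣ) x : SL2)

theorem upper_neg (x : F) : upper (-x) = (upper x)⁻¹ := by
  refine eq_inv_of_mul_eq_one_left ?_
  rw [upper, upper, ← map_mul, bEl_one_mul, neg_add_cancel, bEl_one_zero, map_one]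

/-- An element of order three is not inverted by an element whose square is one. -/
theorem no_invert_three (h8 : Fintype.card F % 8 = 3) {i y : PSL2}
    (hy : orderOf y = 3) : i * y * i⁻¹ ≠ y⁻¹ := by
  intro e
  obtain ⟨k, b, hb, rfl⟩ := exists_transvection hy
  set a : PSL2 := (prj k)⁻¹ * i * prj k with ha
  have he : a * upper b * a⁻¹ = upper (-b) := by
    rw [upper_neg]
    rw [map_mul, map_mul, map_inv] at e
    calc a * upper b * a⁻¹
        = (prj k)⁻¹ * (i * (prj k * upper b * (prj k)⁻¹) * i⁻¹) * prj k := by rw [ha]; group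
      _ = (upper b)⁻¹ := by rw [upper, e]; group
  obtain ⟨m, hm⟩ := prj_surjective a
  have h2 := two_ne_zero_of_three (F := F)
  have h : prj (m * (bEl (1 : Fˣ) b : SL2) * m⁻¹ * (bEl (1 : Fˣ) (-b) : SL2)⁻¹) = 1 := by
    rw [map_mul, map_mul, map_mul, map_inv, map_inv, hm]
    rw [upper, upper] at he
    rw [he, mul_inv_cancel]
  rcases prj_eq_one.1 h with e' | e'
  · have hM := congrArg (fun g : SL2 => (g : Matrix (Fin 2) (Fin 2) F))
      (show m * (bEl (1 : Fˣ) b : SL2) = (bEl (1 : Fˣ) (-b) : SL2) * m from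
        mul_inv_eq_iff_eq_mul.1 (mul_inv_eq_one.1 e'))
    simp only [Matrix.SpecialLinearGroup.coe_mul, bEl_coe] at hM
    have e00 := congrFun (congrFun hM 0) 0
    have e01 := congrFun (congrFun hM 0) 1
    simp [Matrix.mul_apply, Fin.sum_univ_two] at e00 e01
    have hc0 : (m : Matrix (Fin 2) (Fin 2) F) 1 0 = 0 := by
      rcases e00 with e | e
      · exact absurd e hb
      · exact e
    have had : (m : Matrix (Fin 2) (Fin 2) F) 0 0 = -(m : Matrix (Fin 2) (Fin 2) F) 1 1 :=
      mul_right_cancel₀ hb (by linear_combination e01)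
    have hdet := m.2
    rw [Matrix.det_fin_two, hc0, mul_zero, sub_zero, had] at hdet
    exact neg_one_nonsquare h8 _ (by linear_combination -hdet)
  · have e1 : m * (bEl (1 : Fˣ) b : SL2) * m⁻¹ = -1 * (bEl (1 : Fˣ) (-b) : SL2) :=
      mul_inv_eq_iff_eq_mul.1 e'
    have e2 := congrArg (fun g : SL2 => (g : Matrix (Fin 2) (Fin 2) F).trace) e1
    simp only [Matrix.SpecialLinearGroup.coe_mul] at e2
    rw [Matrix.trace_mul_comm, ← Matrix.mul_assoc, ← Matrix.SpecialLinearGroup.coe_mul,
      inv_mul_cancel, Matrix.SpecialLinearGroup.coe_one, Matrix.one_mul, neg_one_coe, Matrix.neg_mul,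
      Matrix.one_mul, Matrix.trace_neg, bEl_trace, bEl_trace] at e2
    refine h2 (mul_self_eq_zero.1 ?_)
    push_cast at e2
    rw [inv_one] at e2
    linear_combination e2

/-- The diagonal torus. -/
def diag : Fˣ →* PSL2 :=
  prj.comp
    { toFun := fun a => (bEl a 0 : SL2)
      map_one' := Subtype.ext (by simp [Matrix.one_fin_two])
      map_mul' := fun a b => Subtype.ext (by
        rw [Matrix.SpecialLinearGroup.coe_mul, bEl_coe, bEl_coe, bEl_coe]
        ext i j
        fin_cases i <;> fin_cases j <;> simp [Matrix.mul_apply, Fin.sum_univ_two, mul_comm]) }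

theorem diag_apply (a : Fˣ) : diag a = prj (bEl a 0 : SL2) := rfl

theorem diag_eq_one {a : Fˣ} : diag a = 1 ↔ a = 1 ∨ a = -1 := by
  rw [diag_apply, prj_eq_one]
  constructor
  · rintro (e | e)
    · left
      have := congrFun (congrFun (congrArg Subtype.val e) 0) 0
      simp at this
      exact this
    · right
      have := congrFun (congrFun (congrArg Subtype.val e) 0) 0
      simp at this
      exact Units.ext (by simpa using this)
  · rintro (rfl | rfl)
    · exact Or.inl (Subtype.ext (by simp [Matrix.one_fin_two]))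
    · refine Or.inr (Subtype.ext ?_)
      rw [neg_one_coe, bEl_coe]
      ext i j
      fin_cases i <;> fin_cases j <;> simp

theorem card_diag : 2 * Nat.card (diag (F := F)).range = Fintype.card F - 1 := by
  have hker : Nat.card (diag (F := F)).ker = 2 := by
    rw [Nat.card_eq_two_iff]
    have hne : (1 : Fˣ) ≠ -1 := fun e => two_ne_zero_of_three (F := F) (by
      have h := congrArg Units.val e
      simp only [Units.val_one, Units.val_neg] at h
      linear_combination h)
    refine ⟨1, ⟨-1, diag_eq_one.2 (Or.inr rfl)⟩, fun e => hne (congrArg Subtype.val e), ?_⟩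
    rw [Set.eq_univ_iff_forall]
    rintro ⟨a, ha⟩
    rcases diag_eq_one.1 ha with rfl | rfl
    · exact Or.inl rfl
    · exact Or.inr rfl
  have h := (diag (F := F)).ker.card_mul_index
  rw [hker, Subgroup.index_ker, Nat.card_units, Nat.card_eq_fintype_card (α := F)] at h
  exact h

theorem diag_upper (a : Fˣ) (x : F) :
    diag a * upper x * (diag a)⁻¹ = upper ((a : F) * a * x) := by
  rw [mul_inv_eq_iff_eq_mul, diag_apply, upper, upper, ← map_mul, ← map_mul]
  refine congrArg prj (Subtype.ext ?_)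
  rw [Matrix.SpecialLinearGroup.coe_mul, Matrix.SpecialLinearGroup.coe_mul, bEl_coe, bEl_coe,
    bEl_coe]
  ext i j
  fin_cases i <;> fin_cases j <;> simp [Matrix.mul_apply, Fin.sum_univ_two]
  field_simp

/-- The Borel torus at an element of order three. -/
theorem exists_borel_torus {y : PSL2} (hy : orderOf y = 3) :
    ∃ A : Subgroup PSL2, IsCyclic A ∧ 2 * Nat.card A = Fintype.card F - 1 ∧
      ∀ a ∈ A, ∀ g, Commute g y → Commute (a * g * a⁻¹) y := by
  obtain ⟨k, b, hb, rfl⟩ := exists_transvection hy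
  refine ⟨(diag (F := F)).range.map (MulAut.conj (prj k)).toMonoidHom, ?_, ?_, ?_⟩
  · exact isCyclic_of_surjective
      (((MulAut.conj (prj k)).toMonoidHom.subgroupMap _).comp (diag (F := F)).rangeRestrict)
      ((MonoidHom.subgroupMap_surjective _ _).comp (MonoidHom.rangeRestrict_surjective _))
  · rw [Subgroup.card_map_of_injective (MulAut.conj (prj k)).injective, card_diag]
  · rintro _ ⟨_, ⟨a, rfl⟩, rfl⟩ g hg
    obtain ⟨x, hx⟩ := commute_transvection hb (g := (prj k)⁻¹ * g * prj k) (by
      have := hg.map (MulAut.conj (prj k)⁻¹).toMonoidHom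
      simpa [map_mul, mul_assoc] using this)
    have e : MulAut.conj (prj k) (diag a) * g * (MulAut.conj (prj k) (diag a))⁻¹ =
        MulAut.conj (prj k) (upper ((a : F) * a * x)) := by
      rw [← diag_upper, MulAut.conj_apply, MulAut.conj_apply, upper, ← hx]; group
    show Commute (MulAut.conj (prj k) (diag a) * g * (MulAut.conj (prj k) (diag a))⁻¹) _
    rw [e]
    have : Commute (upper ((a : F) * a * x)) (upper b) := by
      show _ * _ = _ * _
      rw [upper, upper, ← map_mul, ← map_mul, bEl_one_mul, bEl_one_mul, add_comm]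
    simpa [MulAut.conj_apply, upper, map_mul, map_inv] using
      this.map (MulAut.conj (prj k)).toMonoidHom

/-- An element of odd prime order dividing `q - 1` is inverted by an involution. -/
theorem exists_inverting (h8 : Fintype.card F % 8 = 3) {r : ℕ} (hr : r.Prime) (hr2 : r ≠ 2)
    (hdvd : r ∣ Fintype.card F - 1) {u : PSL2} (hu : orderOf u = r) :
    ∃ w : PSL2, w * w = 1 ∧ w ≠ 1 ∧ w * u * w⁻¹ = u⁻¹ := by
  have : Fact r.Prime := ⟨hr⟩
  have hidx : ¬ r ∣ (diag (F := F)).range.index := by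
    intro hd
    have h := (diag (F := F)).range.card_mul_index
    have hA := card_diag (F := F)
    have h2 := two_mul_card (F := F) h8
    have hi : (diag (F := F)).range.index = (Fintype.card F + 1) * Fintype.card F := by
      refine Nat.eq_of_mul_eq_mul_left (show 0 < Fintype.card F - 1 by omega) ?_
      rw [← h, ← mul_assoc, hA] at h2
      rw [h2]; ring
    rw [hi] at hd
    rcases (Nat.Prime.dvd_mul hr).1 hd with h' | h'
    · have : r ∣ 2 := by
        have := Nat.dvd_sub h' hdvd
        rwa [show Fintype.card F + 1 - (Fintype.card F - 1) = 2 by omega] at this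
      exact hr2 ((Nat.prime_dvd_prime_iff_eq hr Nat.prime_two).1 this)
    · have := Nat.dvd_sub h' hdvd
      rw [show Fintype.card F - (Fintype.card F - 1) = 1 by omega] at this
      exact hr.ne_one (Nat.dvd_one.1 this)
  obtain ⟨g, hg⟩ := exists_conj_mem_of_index
    (IsPGroup.of_card (n := 1) (by rw [Nat.card_zpowers, hu, pow_one]) :
      IsPGroup r (Subgroup.zpowers u)) hidx
  obtain ⟨a, ha⟩ := hg u (Subgroup.mem_zpowers u)
  let J : SL2 := ⟨!![0, 1; -1, 0], by simp [Matrix.det_fin_two]⟩
  have hJJ : J * J = -1 := Subtype.ext (by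
    rw [Matrix.SpecialLinearGroup.coe_mul, neg_one_coe]
    ext i j
    fin_cases i <;> fin_cases j <;> simp [J, Matrix.mul_apply, Fin.sum_univ_two])
  have hJd : prj J * diag a * (prj J)⁻¹ = (diag a)⁻¹ := by
    rw [mul_inv_eq_iff_eq_mul, ← map_inv, diag_apply, diag_apply, ← map_mul, ← map_mul]
    refine congrArg prj (Subtype.ext ?_)
    rw [Matrix.SpecialLinearGroup.coe_mul, Matrix.SpecialLinearGroup.coe_mul, bEl_coe, bEl_coe]
    ext i j
    fin_cases i <;> fin_cases j <;> simp [J, Matrix.mul_apply, Fin.sum_univ_two]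
  have hJ1 : prj J ≠ 1 := fun e => by
    rcases prj_eq_one.1 e with e' | e' <;>
      simpa [J, neg_one_coe] using congrFun (congrFun (congrArg Subtype.val e') 0) 1
  refine ⟨g * prj J * g⁻¹, ?_, ?_, ?_⟩
  · rw [show g * prj J * g⁻¹ * (g * prj J * g⁻¹) = g * (prj J * prj J) * g⁻¹ by group, ← map_mul,
      hJJ, prj_eq_one.2 (Or.inr rfl), mul_one, mul_inv_cancel]
  · intro e
    exact hJ1 (by
      calc prj J = g⁻¹ * (g * prj J * g⁻¹) * g := by group
        _ = 1 := by rw [e]; group)
  · have hu' : u = g * diag a * g⁻¹ := by rw [ha]; group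
    rw [hu', show g * prj J * g⁻¹ * (g * diag a * g⁻¹) * (g * prj J * g⁻¹)⁻¹ =
      g * (prj J * diag a * (prj J)⁻¹) * g⁻¹ by group, hJd]
    group

/-- An involution commutes with no element of odd prime order dividing `q - 1`. -/
theorem not_commute_invol (h8 : Fintype.card F % 8 = 3) (hq : 5 ≤ Fintype.card F) {r : ℕ}
    (hr : r.Prime) (hr2 : r ≠ 2) (hdvd : r ∣ Fintype.card F - 1) {u i : PSL2} (hu : orderOf u = r)
    (hi : orderOf i = 2) : ¬ Commute i u := by
  intro h
  obtain ⟨f, -, -, -, hcard, -, -⟩ :=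
    CfsgLib.SmallRee.psl_invol_structure (F := F) (by omega) hq hi
  have hd : r ∣ Fintype.card F + 1 := by
    rw [← hcard, ← hu]
    exact Subgroup.orderOf_dvd_natCard _ (Subgroup.mem_centralizer_singleton_iff.2 h.symm.eq)
  have := Nat.dvd_sub hd hdvd
  rw [show Fintype.card F + 1 - (Fintype.card F - 1) = 2 by omega] at this
  exact hr2 ((Nat.prime_dvd_prime_iff_eq hr Nat.prime_two).1 this)

/-- The torus of an element of odd prime order dividing `q + 1`. -/
theorem exists_torus_of_order (h8 : Fintype.card F % 8 = 3) (hq : 5 ≤ Fintype.card F) {r : ℕ}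
    (hr : r.Prime) (hr2 : r ≠ 2) (hdvd : r ∣ Fintype.card F + 1) {u : PSL2} (hu : orderOf u = r) :
    ∃ f i : PSL2, orderOf f = (Fintype.card F + 1) / 2 ∧ orderOf i = 2 ∧
      i ∈ Subgroup.zpowers f ∧ u ∈ Subgroup.zpowers f ∧
      (∀ x, Commute x u ↔ x ∈ Subgroup.zpowers f) ∧
      (∀ x, Commute x i → x ∉ Subgroup.zpowers f → ∀ c ∈ Subgroup.zpowers f, x * c * x⁻¹ = c⁻¹) ∧
      (∀ x, Commute x i → x ∉ Subgroup.zpowers f → x * x = 1) ∧
      Nat.card (Subgroup.centralizer ({i} : Set PSL2)) = Fintype.card F + 1 := by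
  have : Fact r.Prime := ⟨hr⟩
  have : Fact (Nat.Prime 2) := ⟨Nat.prime_two⟩
  have h2c : 2 ∣ Nat.card PSL2 := by
    have hm : Fintype.card F * (Fintype.card F - 1) % 2 = 0 :=
      Nat.mod_eq_zero_of_dvd (dvd_mul_of_dvd_right (Nat.dvd_of_mod_eq_zero (by omega)) _)
    obtain ⟨k, hk⟩ : 4 ∣ Fintype.card F + 1 := Nat.dvd_of_mod_eq_zero (by omega)
    have h2 := two_mul_card (F := F) h8
    rw [hk, mul_assoc] at h2
    exact Dvd.intro (k * (Fintype.card F * (Fintype.card F - 1))) (by omega)
  obtain ⟨i₀, hi₀⟩ := exists_prime_orderOf_dvd_card' 2 h2c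
  obtain ⟨f₀, hf₀, hif₀, hle₀, -, -, -⟩ :=
    CfsgLib.SmallRee.psl_invol_structure (F := F) (by omega) hq hi₀
  have hidx : ¬ r ∣ (Subgroup.zpowers f₀).index := by
    intro hd
    have h := (Subgroup.zpowers f₀).card_mul_index
    rw [Nat.card_zpowers, hf₀] at h
    have h2 := two_mul_card (F := F) h8
    have hi : (Subgroup.zpowers f₀).index = Fintype.card F * (Fintype.card F - 1) := by
      refine Nat.eq_of_mul_eq_mul_left (show 0 < Fintype.card F + 1 by omega) ?_
      rw [← h, ← mul_assoc, show 2 * ((Fintype.card F + 1) / 2) = Fintype.card F + 1 by omega] at h2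
      exact h2
    rw [hi] at hd
    rcases (Nat.Prime.dvd_mul hr).1 hd with h' | h'
    · have := Nat.dvd_sub hdvd h'
      rw [show Fintype.card F + 1 - Fintype.card F = 1 by omega] at this
      exact hr.ne_one (Nat.dvd_one.1 this)
    · have := Nat.dvd_sub hdvd h'
      rw [show Fintype.card F + 1 - (Fintype.card F - 1) = 2 by omega] at this
      exact hr2 ((Nat.prime_dvd_prime_iff_eq hr Nat.prime_two).1 this)
  obtain ⟨g, hg⟩ := exists_conj_mem_of_index
    (IsPGroup.of_card (n := 1) (by rw [Nat.card_zpowers, hu, pow_one]) :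
      IsPGroup r (Subgroup.zpowers u)) hidx
  set i : PSL2 := g * i₀ * g⁻¹ with hidef
  have hi : orderOf i = 2 := by rw [hidef, ← MulAut.conj_apply, MulEquiv.orderOf_eq, hi₀]
  have hiu : Commute i u := by
    have h1 : Commute i₀ (g⁻¹ * u * g) :=
      (Subgroup.mem_centralizer_singleton_iff.1 (hle₀ (hg u (Subgroup.mem_zpowers u)))).symm
    simpa [hidef, mul_assoc] using h1.map (MulAut.conj g).toMonoidHom
  obtain ⟨f, hf, hif, hle, hcard, hout, hcent⟩ :=
    CfsgLib.SmallRee.psl_invol_structure (F := F) (by omega) hq hi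
  have hu1 : u ≠ 1 := fun e => by rw [e, orderOf_one] at hu; exact hr.ne_one hu.symm
  have huf : u ∈ Subgroup.zpowers f := by
    by_contra hnot
    have := hout u hiu hnot
    have hd := orderOf_dvd_of_pow_eq_one (show u ^ 2 = 1 by rw [pow_two, this])
    rw [hu] at hd
    exact hr2 ((Nat.prime_dvd_prime_iff_eq hr Nat.prime_two).1 hd)
  have hinv : ∀ x, Commute x i → x ∉ Subgroup.zpowers f →
      ∀ c ∈ Subgroup.zpowers f, x * c * x⁻¹ = c⁻¹ := by
    intro x hx hxf c hc
    have hci : Commute c i := Subgroup.mem_centralizer_singleton_iff.1 (hle hc)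
    have hnot : x * c ∉ Subgroup.zpowers f :=
      fun h => hxf ((Subgroup.mul_mem_cancel_right _ hc).1 h)
    have h1 : x * c * (x * c) = 1 := hout _ (hx.mul_left hci).symm hnot
    have hxx : x⁻¹ = x := inv_eq_of_mul_eq_one_right (hout x hx.symm hxf)
    rw [hxx]
    exact eq_inv_of_mul_eq_one_left (by rw [mul_assoc]; exact h1)
  refine ⟨f, i, hf, hi, hif, huf, fun x => ⟨fun hx => ?_, fun hx => ?_⟩, hinv,
    fun x hx hxf => hout x hx.symm hxf, hcard⟩
  · have hxi : Commute x i := (hcent u huf hu1 x hx.symm).symm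
    by_contra hnot
    have h1 := hinv x hxi hnot u huf
    rw [hx.eq, mul_inv_cancel_right] at h1
    have hd := orderOf_dvd_of_pow_eq_one
      (show u ^ 2 = 1 by rw [pow_two]; nth_rw 2 [h1]; exact mul_inv_cancel u)
    rw [hu] at hd
    exact hr2 ((Nat.prime_dvd_prime_iff_eq hr Nat.prime_two).1 hd)
  · obtain ⟨a, rfl⟩ := Subgroup.mem_zpowers_iff.1 hx
    obtain ⟨b, rfl⟩ := Subgroup.mem_zpowers_iff.1 huf
    exact Commute.zpow_zpow (Commute.refl f) a b

end CfsgLib.ReeAbelian.L2
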