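import Cfsg.Agent.Lib.Walter.ReeAbelian.Main
import Cfsg.Agent.Lib.ReeReal.Instance
import Cfsg.Agent.Lib.ReeOrder.Small.Reduce
import Cfsg.Agent.Lib.Walter.CoreFree
import Cfsg.Agent.Lib.Walter.RankFour.Assembly
import Cfsg.Agent.Lib.ClassicalGroups.SmallIso
import Cfsg.Agent.S1644

/-!
# Simple groups with all Sylow subgroups abelian

The groups of Ree order fall out by the real elements of order `r ∣ q² - q + 1`; what is left of
Walter's list is `PSL₂(q)` and `J₁`.
-/

set_option autoImplicit false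
set_option linter.style.haveILetI false
set_option linter.unusedSectionVars false

namespace CfsgLib.ReeAbelian

open Subgroup CfsgLib.ReeOrder CfsgLib.ReeReal

universe u

section Ree

variable {G : Type u} [Group G] [Fintype G]
variable {F : Type} [Field F] [Fintype F] [DecidableEq F]
variable {t : G} {K : Conf t F} {m : ℕ}

/-- No element has order `3r` for a prime divisor `r` of `q² - q + 1`. -/
theorem no_mixed_of_reeLocal (D : K.ReeLocal m) (g : G) (r : ℕ) (hr : r.Prime)
    (hd : r ∣ Fintype.card F ^ 2 - Fintype.card F + 1) : orderOf g ≠ 3 * r := by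
  intro hg
  haveI := Fact.mk hr
  set k := Conf.third m with hk
  have S := D.setting
  have hd' : r ∣ 9 * k ^ 2 + 1 - 3 * k := by
    rw [D.q_third] at hd
    have h : 3 * k ≤ (3 * k) ^ 2 := Nat.le_self_pow two_ne_zero _
    rwa [show 9 * k ^ 2 + 1 - 3 * k = (3 * k) ^ 2 - 3 * k + 1 by
      rw [show 9 * k ^ 2 = (3 * k) ^ 2 by ring]; omega]
  obtain ⟨x, hx, hxr⟩ := D.exists_real hr hd
  have h7 := prime_ge_seven hr hd'
  have hsix : IsSix (3 * k * (9 * k ^ 2 - 1)) x := by
    refine ⟨fun e => hr.ne_one (by rw [← hx, e, orderOf_one]), ?_⟩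
    rw [hx, hr.coprime_iff_not_dvd]
    intro h
    have hk1 : 1 ≤ 9 * k ^ 2 := by nlinarith [S.hk]
    have h3k : 3 * k ≤ 9 * k ^ 2 + 1 := by nlinarith
    rcases hr.dvd_mul.1 h with h1 | h1
    · rcases hr.dvd_mul.1 h1 with h2 | h2
      · have := Nat.le_of_dvd (by norm_num) h2
        omega
      · have := S.hdiv r hr h2
        omega
    · -- `r ∣ 9k² - 1` and `r ∣ 9k² - 3k + 1` give `r ∣ 3`
      have e1 : (r : ℤ) ∣ 9 * (k : ℤ) ^ 2 - 1 := by
        have := Int.natCast_dvd_natCast.2 h1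
        rw [Nat.cast_sub hk1] at this
        push_cast at this
        exact this
      have e2 : (r : ℤ) ∣ 9 * (k : ℤ) ^ 2 + 1 - 3 * k := by
        have := Int.natCast_dvd_natCast.2 hd'
        rw [Nat.cast_sub h3k] at this
        push_cast at this
        exact this
      have e3 : (r : ℤ) ∣ 3 := by
        have h3 := dvd_sub e1 e2
        have h4 : (r : ℤ) ∣ (9 * (k : ℤ) ^ 2 - 1) * 1 -
            (9 * (k : ℤ) ^ 2 - 1 - (9 * (k : ℤ) ^ 2 + 1 - 3 * k)) * (3 * k + 2) :=
          dvd_sub (e1.mul_right 1) (h3.mul_right _)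
        have e : (9 * (k : ℤ) ^ 2 - 1) * 1 -
            (9 * (k : ℤ) ^ 2 - 1 - (9 * (k : ℤ) ^ 2 + 1 - 3 * k)) * (3 * k + 2) = 3 := by ring
        rwa [e] at h4
      have := Nat.le_of_dvd (n := 3) (by norm_num) (Int.natCast_dvd_natCast.1 (by exact_mod_cast e3))
      omega
  -- the `r`-part of `g` lies in the centralizer of a real element
  have hy : orderOf (g ^ 3) = r := by
    rw [orderOf_pow_of_dvd (by norm_num) (hg ▸ dvd_mul_right 3 r), hg, Nat.mul_div_cancel_left _ (by norm_num)]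
  obtain ⟨P, hP⟩ := (IsPGroup.of_card (n := 1) (G := zpowers x)
    (by rw [Nat.card_zpowers, hx, pow_one])).exists_le_sylow
  have hxP : x ∈ (P : Subgroup G) := hP (mem_zpowers x)
  obtain ⟨c, hc⟩ := CfsgLib.Involutions.exists_conj_le_sylow (IsPGroup.of_card (n := 1) (G := zpowers (g ^ 3))
    (by rw [Nat.card_zpowers, hy, pow_one])) P
  set y := c * g ^ 3 * c⁻¹ with hydef
  have hyP : y ∈ (P : Subgroup G) := hc _ (mem_zpowers _)
  have hyC : y ∈ centralizer ({x} : Set G) := S.sylow_le hsix hxr (Setting.self_mem S x) hx P hxP hyP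
  have hy1 : y ≠ 1 := fun e => hr.ne_one (by rw [← hy, conj_eq_one_iff.1 e, orderOf_one])
  obtain ⟨hysix, hyreal, -⟩ := S.cent_eq hsix hxr hyC hy1
  have hcomm : Commute y (c * g ^ r * c⁻¹) := by
    rw [hydef, ← MulAut.conj_apply, ← MulAut.conj_apply]
    exact ((Commute.refl g).pow_pow 3 r).map (MulAut.conj c).toMonoidHom
  have hcop := S.hclean y _ hysix hyreal hcomm
  rw [← MulAut.conj_apply, MulEquiv.orderOf_eq,
    orderOf_pow_of_dvd hr.ne_zero (hg ▸ dvd_mul_left r 3), hg, Nat.mul_div_cancel _ hr.pos] at hcop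
  exact absurd (Nat.Coprime.eq_one_of_dvd hcop ((dvd_mul_right 3 k).mul_right _)) (by norm_num)

/-- A group of Ree order has a non-abelian Sylow 3-subgroup. -/
theorem false_of_reeLocal (D : K.ReeLocal m) (h3 : ∀ P : Sylow 3 G, ∀ a b : P, a * b = b * a) : False :=
  haveI := D.charP
  Setup.false (G := G) (F := F)
    { simple := K.simple, t := t, E₀ := K.cent, m := m, one_le := D.one_le, card_F := D.card_F,
      card_G := D.card_G, two_comm := K.comm, three_comm := h3,
      one_class := fun _ hv => K.isConj_involution hv,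
      no_mixed := fun g r hr hd => no_mixed_of_reeLocal D g r hr hd }

end Ree

/-- The local data of the groups of Ree order. -/
def LocalGoal : Prop :=
  ∀ (G : Type u) [Group G] [Fintype G] (F : Type) [Field F] [Fintype F] [DecidableEq F] (t : G)
    (K : Conf t F) (m : ℕ), 1 ≤ m → Fintype.card F = 3 ^ (2 * m + 1) →
      Nat.card G = Fintype.card F ^ 3 * (Fintype.card F ^ 3 + 1) * (Fintype.card F - 1) → K.ReeLocal m

/-- A field with three elements gives no simple group. -/
theorem card_ne_three {G : Type u} [Group G] [Finite G] [IsSimpleGroup G] (hna : ¬ IsMulCommutative G)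
    {F : Type} [Field F] [Fintype F]
    (e : G ≃* Matrix.ProjectiveSpecialLinearGroup (Fin 2) F) : Fintype.card F ≠ 3 := by
  classical
  intro h
  obtain ⟨f⟩ := CfsgLib.ClassicalGroups.psl_two_three_alternating h
  haveI : Group.IsSolvable ↥(alternatingGroup (Fin 4)) := by
    haveI := CfsgLib.InvCharSmall.isSolvable_perm_four
    infer_instance
  haveI : Group.IsSolvable G :=
    Group.isSolvable_of_isSolvable_injective (f := (e.trans f).toMonoidHom) (e.trans f).injective
  exact hna ⟨⟨fun a b => IsSimpleGroup.comm_iff_isSolvable.2 ‹_› a b⟩⟩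

/-- The classification, from the field part of rank three, the order and the Ree local data. -/
theorem classify (hF : Walter.FieldFree.{u})
    (hOrd : ∀ (G : Type u) [Group G] [Finite G] [IsSimpleGroup G],
      (∀ P : Sylow 2 G, ∀ a b : P, a * b = b * a) →
      ∀ (F : Type) [Field F] [Fintype F], 3 ≤ Fintype.card F → ∀ t : G, orderOf t = 2 →
        Nonempty (centralizer ({t} : Set G) ≃*
          Multiplicative (ZMod 2) × Matrix.ProjectiveSpecialLinearGroup (Fin 2) F) →
        (∃ m : ℕ, 1 ≤ m ∧ Fintype.card F = 3 ^ (2 * m + 1) ∧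
            Nat.card G = (3 ^ (2 * m + 1)) ^ 3 * ((3 ^ (2 * m + 1)) ^ 3 + 1) * (3 ^ (2 * m + 1) - 1)) ∨
          ((Fintype.card F = 4 ∨ Fintype.card F = 5) ∧ Cfsg.IsJ1 G))
    (hL : LocalGoal.{u})
    {G : Type u} [Group G] [Finite G] [IsSimpleGroup G] (hna : ¬ IsMulCommutative G)
    (hA : ∀ (p : ℕ), p.Prime → ∀ (P : Sylow p G), IsMulCommutative ↥P) :
    Cfsg.Spor.IsoJ1 G ∨
      ∃ (F : Type) (_ : Field F) (_ : Fintype F), 3 < Fintype.card F ∧
        (Fintype.card F % 8 = 0 ∨ Fintype.card F % 8 = 3 ∨ Fintype.card F % 8 = 5) ∧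
        Nonempty (G ≃* Matrix.ProjectiveSpecialLinearGroup (Fin 2) F) := by
  classical
  haveI : Fact (Nat.Prime 2) := ⟨Nat.prime_two⟩
  have hcomm : ∀ (p : ℕ), p.Prime → ∀ (P : Sylow p G), ∀ a b : P, a * b = b * a := fun p hp P a b =>
    (hA p hp P).is_comm.comm a b
  obtain ⟨S⟩ : Nonempty (Sylow 2 G) := inferInstance
  have hab : ∀ x ∈ (S : Subgroup G), ∀ y ∈ (S : Subgroup G), x * y = y * x := fun x hx y hy =>
    congrArg Subtype.val (hcomm 2 Nat.prime_two S ⟨x, hx⟩ ⟨y, hy⟩)
  have hodd : ∀ (F : Type) [Field F] [Fintype F],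
      (Fintype.card F % 8 = 3 ∨ Fintype.card F % 8 = 5) →
      Nonempty (G ≃* Matrix.ProjectiveSpecialLinearGroup (Fin 2) F) →
      3 < Fintype.card F ∧
        (Fintype.card F % 8 = 0 ∨ Fintype.card F % 8 = 3 ∨ Fintype.card F % 8 = 5) := by
    intro F _ _ hq he
    obtain ⟨e⟩ := he
    have := card_ne_three hna e
    omega
  have hgood := Walter.RankFour.goodAt_of_smaller hna S hab
    fun Y _ _ _ hY T hT _ => Walter.RankFour.good_all Walter.coreFree Y hY T hT
  rcases Walter.RankFour.trichotomy hna S hab hgood with h | h | ⟨h8, hel, hu⟩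
  · have hns : ¬ Group.IsSolvable G := fun hs =>
      hna ⟨⟨fun a b => IsSimpleGroup.comm_iff_isSolvable.2 hs a b⟩⟩
    obtain ⟨F, iF, iFt, hq, he⟩ :=
      CfsgLib.SylTwoAbel.exists_psl_of_simple CfsgLib.GW.Done.classification hns S hab h
    rcases hq with ⟨hq, -⟩ | ⟨n, hn, hq⟩
    · exact Or.inr ⟨F, iF, iFt, (hodd F hq he).1, (hodd F hq he).2, he⟩
    rcases eq_or_ne n 2 with rfl | hn2
    · -- `PSL₂(4) ≅ PSL₂(5)`
      haveI : Fact (Nat.Prime 5) := ⟨Nat.prime_five⟩
      obtain ⟨e⟩ := he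
      obtain ⟨f⟩ := @CfsgLib.ClassicalGroups.psl_two_four_alternating F iF iFt hq
      obtain ⟨f'⟩ := CfsgLib.ClassicalGroups.psl_two_five_alternating (K := ZMod 5) (ZMod.card 5)
      exact Or.inr ⟨ZMod 5, inferInstance, inferInstance, by rw [ZMod.card]; norm_num,
        Or.inr (Or.inr (by rw [ZMod.card])), ⟨e.trans (f.trans f'.symm)⟩⟩
    · have h8n : 2 ^ 3 ∣ @Fintype.card F iFt := hq ▸ pow_dvd_pow 2 (show 3 ≤ n by omega)
      have hpos : 0 < @Fintype.card F iFt := hq ▸ pow_pos two_pos n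
      refine Or.inr ⟨F, iF, iFt, ?_, Or.inl (Nat.mod_eq_zero_of_dvd (by simpa using h8n)), he⟩
      have := Nat.le_of_dvd hpos h8n
      omega
  · obtain ⟨F, iF, iFt, hq, he⟩ := Walter.RankFour.exists_psl_of_rank_two hna S hab h
    exact Or.inr ⟨F, iF, iFt, (hodd F hq he).1, (hodd F hq he).2, he⟩
  obtain ⟨E, hES⟩ := Walter.RankFour.exists_setup hna S h8 hel hu
  have hloc := E.local_structure
  have hW := Walter.coreFree G E hloc (E.isCoatom_all (Walter.smallCore Walter.coreFree G))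
  obtain ⟨F, iF, iFt, hq, ⟨eC⟩⟩ := hF G E hloc hW
  rcases hOrd G (hcomm 2 Nat.prime_two) F hq E.t E.orderOf_t ⟨eC⟩ with ⟨m, hm, hqm, hG⟩ | ⟨hq45, -⟩
  · exfalso
    haveI := Fintype.ofFinite G
    have h27 : 27 ≤ 3 ^ (2 * m + 1) :=
      le_trans (by norm_num) (Nat.pow_le_pow_right (by norm_num) (show 3 ≤ 2 * m + 1 by omega))
    obtain ⟨F', iF', iFt', iD', hcard, ⟨C⟩⟩ :=
      CfsgLib.ReeOrder.Small.exists_centData (by rw [hqm]; omega) E.t E.orderOf_t ⟨eC⟩
    have hq' : Fintype.card F' = 3 ^ (2 * m + 1) := hcard.trans hqm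
    let K : Conf E.t F' :=
      { cent := C, simple := inferInstance, comm := hcomm 2 Nat.prime_two,
        q_ge := by rw [hq']; omega,
        q_mod := Or.inl (by rw [hq', CfsgLib.ReeType.three_pow_mod]) }
    exact false_of_reeLocal (hL G F' E.t K m hm hq' (by rw [hq']; exact hG)) (hcomm 3 Nat.prime_three)
  · left
    obtain ⟨f⟩ : Nonempty (Matrix.ProjectiveSpecialLinearGroup (Fin 2) F ≃* alternatingGroup (Fin 5)) :=
      hq45.elim (fun h => CfsgLib.ClassicalGroups.psl_two_four_alternating h)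
        (fun h => CfsgLib.ClassicalGroups.psl_two_five_alternating h)
    exact Cfsg.Agent.S1644.result E.S ⟨⟨fun a b => Subtype.ext (E.comm a.2 b.2)⟩⟩ E.card_S E.t
      E.orderOf_t (eC.trans ((MulEquiv.refl _).prodCongr f))

end CfsgLib.ReeAbelian
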