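import Cfsg.Agent.Lib.Walter.ReeAbelian.MBound
import Cfsg.Agent.Lib.Solvable.Fitting

/-!
# Sylow 3-subgroups containing an element of order three centralized by an involution
-/

set_option autoImplicit false
set_option linter.style.haveILetI false
set_option linter.unusedSectionVars false

noncomputable section

namespace CfsgLib.ReeAbelian

open Cfsg CfsgLib.ReeType

universe u

theorem zpowers_le_of_dvd {C : Type*} [Group C] [IsCyclic C] [Finite C] {a b : C}
    (h : orderOf b ∣ orderOf a) : Subgroup.zpowers b ≤ Subgroup.zpowers a := by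
  obtain ⟨γ, hγ⟩ := IsCyclic.exists_generator (α := C)
  rw [Subgroup.zpowers_le]
  obtain ⟨k, hk⟩ := h
  have hb : b ^ orderOf a = 1 := by rw [hk, pow_mul, pow_orderOf_eq_one, one_pow]
  classical
  letI := Fintype.ofFinite C
  have hsub : ((Subgroup.zpowers a : Set C).toFinset) ⊆
      Finset.univ.filter fun x : C => x ^ orderOf a = 1 := fun x hx => by
    rw [Set.mem_toFinset] at hx
    obtain ⟨i, rfl⟩ := Subgroup.mem_zpowers_iff.1 hx
    simp only [Finset.mem_filter, Finset.mem_univ, true_and]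
    rw [← zpow_natCast, ← zpow_mul, mul_comm, zpow_mul, zpow_natCast, pow_orderOf_eq_one, one_zpow]
  have hcard := IsCyclic.card_pow_eq_one_le (α := C) (orderOf_pos a)
  have heq := Finset.eq_of_subset_of_card_le hsub (hcard.trans (by
    rw [Set.toFinset_card, ← Nat.card_eq_fintype_card]
    exact (Nat.card_zpowers a).ge))
  have : b ∈ (Subgroup.zpowers a : Set C).toFinset := by
    rw [heq]; simpa using hb
  simpa using this

/-- An automorphism inverting `u` forces `u` to centralize every cyclic subgroup it normalizes that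
the automorphism stabilizes. -/
theorem inverted_commute {J : Type*} [Group J] {C : Subgroup J} [IsCyclic C] (σ : MulAut J)
    (hσ : ∀ c ∈ C, σ.symm c ∈ C) {u : J} (hu : ∀ c ∈ C, u * c * u⁻¹ ∈ C) (hσu : σ u = u⁻¹)
    (hodd : Odd (orderOf u)) {c : J} (hc : c ∈ C) : Commute u c := by
  obtain ⟨⟨γ, hγ⟩, hgen⟩ := IsCyclic.exists_generator (α := C)
  have hpow : ∀ d ∈ C, ∃ i : ℤ, γ ^ i = d := fun d hd => by
    obtain ⟨i, hi⟩ := Subgroup.mem_zpowers_iff.1 (hgen ⟨d, hd⟩)
    exact ⟨i, congrArg Subtype.val hi⟩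
  obtain ⟨k, hk⟩ := hpow _ (hu γ hγ)
  have hact : ∀ d ∈ C, u * d * u⁻¹ = d ^ k := fun d hd => by
    obtain ⟨i, rfl⟩ := hpow d hd
    rw [← conj_zpow, ← hk, ← zpow_mul, ← zpow_mul, mul_comm]
  have h2 : u⁻¹ * c * u = u * c * u⁻¹ := by
    have h := congrArg σ (hact _ (hσ c hc))
    rw [map_mul, map_mul, map_inv, hσu, map_zpow, σ.apply_symm_apply, inv_inv] at h
    rw [hact c hc, h]
  have h3 : Commute (u ^ 2) c := by
    rw [pow_two]
    show u * u * c = c * (u * u)
    calc u * u * c = u * (u * c * u⁻¹) * u := by simp [mul_assoc]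
      _ = u * (u⁻¹ * c * u) * u := by rw [h2]
      _ = c * (u * u) := by simp [mul_assoc]
  obtain ⟨j, hj⟩ := hodd
  have e : (u ^ 2) ^ (j + 1) = u := by
    rw [← pow_mul, show 2 * (j + 1) = orderOf u + 1 by omega, pow_succ, pow_orderOf_eq_one, one_mul]
  exact e ▸ h3.pow_left (j + 1)

/-- A subgroup of a cyclic `p`-group generated by an element of order `p` is unique. -/
theorem mem_zpowers_of_orderOf {J : Type*} [Group J] [Finite J] {C : Subgroup J} [IsCyclic C] {p : ℕ}
    (_hp : p.Prime) {a b : J} (ha : a ∈ C) (hb : b ∈ C) (hao : orderOf a = p) (hbo : orderOf b ∣ p) :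
    b ∈ Subgroup.zpowers a := by
  have hle : Subgroup.zpowers b ≤ Subgroup.zpowers a := by
    have h1 : (Subgroup.zpowers (⟨b, hb⟩ : C)) ≤ Subgroup.zpowers (⟨a, ha⟩ : C) := by
      obtain ⟨d, hd⟩ := hbo
      refine CfsgLib.ReeAbelian.zpowers_le_of_dvd ?_
      rw [Subgroup.orderOf_mk, Subgroup.orderOf_mk, hao]
      exact ⟨d, hd⟩
    intro x hx
    obtain ⟨i, rfl⟩ := Subgroup.mem_zpowers_iff.1 hx
    obtain ⟨j, hj⟩ := Subgroup.mem_zpowers_iff.1 (h1 (zpow_mem (Subgroup.mem_zpowers _) i))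
    exact Subgroup.mem_zpowers_iff.2 ⟨j, congrArg Subtype.val hj⟩
  exact hle (Subgroup.mem_zpowers b)

variable {G : Type u} [Group G] [Finite G] {F : Type} [Field F] [Fintype F] [DecidableEq F]
  [CharP F 3]

namespace Setup

variable (D : Setup G F)
include D

theorem factorization_three : (Nat.card G).factorization 3 = 3 * (2 * D.m + 1) := by
  obtain ⟨h8, h27, -, h3q⟩ := D.q_facts
  set q := Fintype.card F with hq
  obtain ⟨c, hc⟩ := h3q
  have hne : ¬ 3 ∣ q ^ 3 + 1 := by
    intro h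
    have : 3 ∣ q ^ 3 := dvd_pow (hq ▸ D.q_facts.2.2.2) (by norm_num)
    omega
  rw [D.card_G, ← hq, Nat.factorization_mul (Nat.mul_pos (by positivity) (by omega)).ne' (by omega),
    Nat.factorization_mul (by positivity) (by omega), Finsupp.add_apply, Finsupp.add_apply,
    Nat.factorization_eq_zero_of_not_dvd hne,
    Nat.factorization_eq_zero_of_not_dvd (show ¬ 3 ∣ q - 1 by omega), hq, D.card_F, ← pow_mul,
    Nat.prime_three.factorization_pow, Finsupp.single_eq_same]
  ring

theorem card_sylow_three (P : Sylow 3 G) : Nat.card P = Fintype.card F ^ 3 := by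
  haveI : Fact (Nat.Prime 3) := ⟨Nat.prime_three⟩
  rw [P.card_eq_multiplicity, D.factorization_three, D.card_F, ← pow_mul, mul_comm]

/-- Subgroups of prime-power order, for the primes dividing `q ± 1`, are cyclic. -/
theorem isCyclic_of_isPGroup {r : ℕ} (hr : r.Prime) (h5 : 5 ≤ r)
    (hd : r ∣ Fintype.card F - 1 ∨ r ∣ Fintype.card F + 1) {U : Subgroup G} (hU : IsPGroup r U) :
    IsCyclic U := by
  haveI : Fact r.Prime := ⟨hr⟩
  haveI : Fact (Nat.Prime 2) := ⟨Nat.prime_two⟩
  obtain ⟨h8, h27, hq5, -⟩ := D.q_facts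
  obtain ⟨g, hg⟩ := CfsgLib.SL2Tori.exists_conj_mem_of_index hU (D.not_dvd_index hr h5 hd)
  let φ : U →* Matrix.ProjectiveSpecialLinearGroup (Fin 2) F :=
    D.E₀.kappa.comp
      { toFun := fun x => ⟨g⁻¹ * (x : G) * g, hg x x.2⟩
        map_one' := Subtype.ext (by simp)
        map_mul' := fun a b => Subtype.ext (by simp [mul_assoc]) }
  have hodd : ∀ x : U, Odd (orderOf (x : G)) := fun x => by
    obtain ⟨k, hk⟩ := hU x
    exact (hr.odd_of_ne_two (by omega)).pow.of_dvd_nat
      (orderOf_dvd_of_pow_eq_one (congrArg Subtype.val hk))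
  have hφ : Function.Injective φ := by
    rw [← MonoidHom.ker_eq_bot_iff, Subgroup.eq_bot_iff_forall]
    intro x hx
    have hc : Commute (g⁻¹ * (x : G) * g) D.t := Subgroup.mem_centralizer_singleton_iff.1 (hg x x.2)
    have ho : orderOf (g⁻¹ * (x : G) * g) = orderOf (x : G) := by
      rw [show g⁻¹ * (x : G) * g = MulAut.conj g⁻¹ (x : G) by simp, MulEquiv.orderOf_eq]
    have h1 := eq_up_of_odd D.E₀ hc (by rw [ho]; exact hodd x)
    rw [show kap D.E₀ hc = 1 from hx, map_one] at h1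
    exact Subtype.ext (by
      calc (x : G) = g * (g⁻¹ * (x : G) * g) * g⁻¹ := by group
        _ = 1 := by rw [h1]; group)
  have hU' : IsPGroup r φ.range := hU.of_surjective φ.rangeRestrict φ.rangeRestrict_surjective
  obtain ⟨T, hT, hTidx⟩ : ∃ T : Subgroup (Matrix.ProjectiveSpecialLinearGroup (Fin 2) F),
      IsCyclic T ∧ ¬ r ∣ T.index := by
    have h2 := L2.two_mul_card (F := F) h8
    have hrq : ¬ r ∣ Fintype.card F := fun h => by
      rw [D.card_F] at h
      have := (Nat.prime_dvd_prime_iff_eq hr Nat.prime_three).1 (hr.dvd_of_dvd_pow h)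
      omega
    rcases hd with hd | hd
    · refine ⟨(L2.diag (F := F)).range,
        isCyclic_of_surjective _ (L2.diag (F := F)).rangeRestrict_surjective, fun h => ?_⟩
      have hc := (L2.diag (F := F)).range.card_mul_index
      have hi : (L2.diag (F := F)).range.index = (Fintype.card F + 1) * Fintype.card F := by
        refine Nat.eq_of_mul_eq_mul_left (show 0 < Fintype.card F - 1 by omega) ?_
        rw [← hc, ← mul_assoc, L2.card_diag] at h2
        rw [h2]; ring
      rw [hi] at h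
      rcases (Nat.Prime.dvd_mul hr).1 h with h' | h'
      · have := Nat.dvd_sub h' hd
        rw [show Fintype.card F + 1 - (Fintype.card F - 1) = 2 by omega] at this
        have := Nat.le_of_dvd two_pos this
        omega
      · exact hrq h'
    · have h2c : 2 ∣ Nat.card (Matrix.ProjectiveSpecialLinearGroup (Fin 2) F) := by
        have hm : Fintype.card F * (Fintype.card F - 1) % 2 = 0 :=
          Nat.mod_eq_zero_of_dvd (dvd_mul_of_dvd_right (Nat.dvd_of_mod_eq_zero (by omega)) _)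
        obtain ⟨k, hk⟩ : 4 ∣ Fintype.card F + 1 := Nat.dvd_of_mod_eq_zero (by omega)
        rw [hk, mul_assoc] at h2
        exact Dvd.intro (k * (Fintype.card F * (Fintype.card F - 1))) (by omega)
      obtain ⟨i₀, hi₀⟩ := exists_prime_orderOf_dvd_card' 2 h2c
      obtain ⟨f₀, hf₀, -, -, -, -, -⟩ :=
        CfsgLib.SmallRee.psl_invol_structure (F := F) (by omega) hq5 hi₀
      refine ⟨Subgroup.zpowers f₀, inferInstance, fun h => ?_⟩
      have hc := (Subgroup.zpowers f₀).card_mul_index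
      rw [Nat.card_zpowers, hf₀] at hc
      have hi : (Subgroup.zpowers f₀).index = Fintype.card F * (Fintype.card F - 1) := by
        refine Nat.eq_of_mul_eq_mul_left (show 0 < Fintype.card F + 1 by omega) ?_
        rw [← hc, ← mul_assoc,
          show 2 * ((Fintype.card F + 1) / 2) = Fintype.card F + 1 by omega] at h2
        exact h2
      rw [hi] at h
      rcases (Nat.Prime.dvd_mul hr).1 h with h' | h'
      · exact hrq h'
      · have := Nat.dvd_sub hd h'
        rw [show Fintype.card F + 1 - (Fintype.card F - 1) = 2 by omega] at this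
        have := Nat.le_of_dvd two_pos this
        omega
  obtain ⟨k, hk⟩ := CfsgLib.SL2Tori.exists_conj_mem_of_index hU' hTidx
  let ψ : U →* T :=
    { toFun := fun x => ⟨k⁻¹ * φ x * k, hk _ ⟨x, rfl⟩⟩
      map_one' := Subtype.ext (by simp)
      map_mul' := fun a b => Subtype.ext (by simp [mul_assoc]) }
  haveI := hT
  exact isCyclic_of_injective ψ fun a b e => hφ (by
    simpa [ψ] using congrArg (fun x : T => (x : Matrix.ProjectiveSpecialLinearGroup (Fin 2) F)) e)

/-- A non-trivial cyclic `p`-group, `p ∣ q + 1`, of odd order in `C(y)` cannot be normalized by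
`z` and `Ev`. -/
theorem false_of_normalized {p : ℕ} (hp : p.Prime) (h5 : 5 ≤ p) (hd : p ∣ Fintype.card F + 1)
    {z y : G} (hz : orderOf z = 2) (hyz : Commute y z) (hy : orderOf y = 3)
    (C : Subgroup G) (hC : IsPGroup p C) (hne : C ≠ ⊥) (hCy : ∀ c ∈ C, Commute c y)
    (hCn : ∀ g : G, Commute g y → ∀ c ∈ C, g * c * g⁻¹ ∈ C) : False := by
  haveI : Fact p.Prime := ⟨hp⟩
  haveI := D.isCyclic_of_isPGroup hp h5 (Or.inr hd) hC
  have hzz : z * z = 1 := by rw [← pow_two, ← hz, pow_orderOf_eq_one]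
  have hzi : z⁻¹ = z := inv_eq_of_mul_eq_one_right hzz
  have hpd : p ∣ Nat.card C := (hC.card_eq_or_dvd).resolve_left fun h => hne (Subgroup.card_eq_one.1 h)
  obtain ⟨⟨u, huC⟩, hu⟩ := exists_prime_orderOf_dvd_card' p hpd
  rw [Subgroup.orderOf_mk] at hu
  have hoC : ∀ c ∈ C, Odd (orderOf c) := fun c hc => by
    obtain ⟨k, hk⟩ := hC ⟨c, hc⟩
    exact (hp.odd_of_ne_two (by omega)).pow.of_dvd_nat
      (orderOf_dvd_of_pow_eq_one (congrArg Subtype.val hk))
  have hzu : z * u * z⁻¹ = u⁻¹ := by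
    have hmem := hCn z hyz.symm u huC
    have hwC : u * (z * u * z⁻¹) ∈ C := C.mul_mem huC hmem
    have hcomm : u * (z * u * z⁻¹) = (z * u * z⁻¹) * u := by
      letI : CommGroup C := IsCyclic.commGroup
      exact congrArg Subtype.val (mul_comm (⟨u, huC⟩ : C) ⟨_, hmem⟩)
    have hwz : Commute (u * (z * u * z⁻¹)) z := by
      show _ = _
      rw [hzi] at hcomm ⊢
      calc u * (z * u * z) * z = u * z * u * (z * z) := by group
        _ = (z * z) * (u * z * u) := by rw [hzz, mul_one, one_mul]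
        _ = z * ((z * u * z) * u) := by group
        _ = z * (u * (z * u * z)) := by rw [hcomm]
    have hev : u * (z * u * z⁻¹) ∈ D.Ev hz hyz :=
      (D.mem_Ev hz hyz hy).2 ⟨hwz, hCy _ hwC, hoC _ hwC⟩
    have h3 := D.Ev_cube hz hyz hy hev
    obtain ⟨k, hk⟩ := hC ⟨_, hwC⟩
    have hcop : Nat.Coprime 3 (p ^ k) :=
      ((Nat.coprime_primes Nat.prime_three hp).2 (by omega)).pow_right k
    exact eq_inv_of_mul_eq_one_right (orderOf_eq_one_iff.1 (Nat.eq_one_of_dvd_coprimes hcop
      (orderOf_dvd_of_pow_eq_one h3) (orderOf_dvd_of_pow_eq_one (congrArg Subtype.val hk))))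
  -- the action of `Ev` on `⟨u⟩`
  set E := D.Ev hz hyz
  have hEn : E ≤ Subgroup.normalizer (Subgroup.zpowers u : Set G) := by
    intro e he
    refine CfsgLib.SL2Tori.mem_normalizer_of_conj_mem fun x hx => ?_
    obtain ⟨i, rfl⟩ := Subgroup.mem_zpowers_iff.1 hx
    rw [← conj_zpow]
    refine zpow_mem ?_ i
    have hmem := hCn e ((D.mem_Ev hz hyz hy).1 he).2.1 u huC
    exact mem_zpowers_of_orderOf hp huC hmem hu (by
      rw [show e * u * e⁻¹ = MulAut.conj e u from rfl, MulEquiv.orderOf_eq, hu])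
  let ψ : E →* MulAut (Subgroup.zpowers u) :=
    (Subgroup.normalizerMonoidHom (Subgroup.zpowers u)).comp (Subgroup.inclusion hEn)
  have hrange : Nat.card ψ.range ∣ 3 := by
    have hcp : Nat.card (Subgroup.zpowers u) = p := by rw [Nat.card_zpowers, hu]
    haveI : Fact (Nat.card (Subgroup.zpowers u)).Prime := ⟨hcp.symm ▸ hp⟩
    haveI : IsCyclic (MulAut (Subgroup.zpowers u)) :=
      isCyclic_of_surjective (IsCyclic.mulAutMulEquiv (Subgroup.zpowers u)).symm
        (IsCyclic.mulAutMulEquiv (Subgroup.zpowers u)).symm.surjective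
    obtain ⟨⟨γ, e, rfl⟩, hgen⟩ := IsCyclic.exists_generator (α := ψ.range)
    rw [← orderOf_eq_card_of_forall_mem_zpowers hgen]
    refine orderOf_dvd_of_pow_eq_one (Subtype.ext ?_)
    show ψ e ^ 3 = 1
    rw [← map_pow, show e ^ 3 = 1 from Subtype.ext (D.Ev_cube hz hyz hy e.2), map_one]
  have hcard := ψ.ker.card_mul_index
  rw [Subgroup.index_ker, D.card_Ev hz hyz hy, D.card_F] at hcard
  have h9 : 9 ∣ Nat.card ψ.ker := by
    obtain ⟨i, -, hi⟩ := (Nat.dvd_prime_pow Nat.prime_three).1 (Dvd.intro _ hcard)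
    rw [hi]
    have h3 : Nat.card ψ.range ≤ 3 := Nat.le_of_dvd (by norm_num) hrange
    have hi2 : 2 ≤ i := by
      by_contra hlt
      have h1 : 3 ^ i ≤ 3 ^ 1 := Nat.pow_le_pow_right (by norm_num) (by omega)
      have h2 : 27 ≤ 3 ^ (2 * D.m + 1) := D.card_F ▸ D.q_facts.2.1
      rw [hi] at hcard
      nlinarith
    exact (show (9 : ℕ) = 3 ^ 2 by norm_num) ▸ pow_dvd_pow 3 hi2
  refine D.not_nine hp h5 hd hu hz hzu (h9.trans ?_)
  rw [← Subgroup.card_map_of_injective E.subtype_injective]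
  refine Subgroup.card_dvd_of_le ?_
  rintro _ ⟨e, he, rfl⟩
  refine ⟨Subgroup.mem_centralizer_singleton_iff.2 ?_,
    Subgroup.mem_centralizer_singleton_iff.2 ((D.mem_Ev hz hyz hy).1 e.2).1.eq⟩
  have h := congrArg (fun φ : MulAut (Subgroup.zpowers u) => ((φ ⟨u, Subgroup.mem_zpowers u⟩ : Subgroup.zpowers u) : G))
    (show ψ e = 1 from he)
  exact mul_inv_eq_iff_eq_mul.1 h

/-- A Sylow 3-subgroup with all 3-elements of the centralizer. -/
theorem exists_big {z y : G} (hz : orderOf z = 2) (hyz : Commute y z) (hy : orderOf y = 3) :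
    ∃ P : Sylow 3 G, y ∈ P ∧ (∀ a ∈ P, Commute a y) ∧
      ∀ (a : G) (j : ℕ), Commute a y → a ^ (3 ^ j) = 1 → a ∈ P := by
  haveI : Fact (Nat.Prime 3) := ⟨Nat.prime_three⟩
  obtain ⟨P, hP⟩ := (IsPGroup.of_card (n := 1) (by rw [Nat.card_zpowers, hy, pow_one]) :
    IsPGroup 3 (Subgroup.zpowers y)).exists_le_sylow
  have hyP : y ∈ P := hP (Subgroup.mem_zpowers y)
  have hPy : ∀ a ∈ P, Commute a y := fun a ha =>
    congrArg Subtype.val (D.three_comm P ⟨a, ha⟩ ⟨y, hyP⟩)
  obtain ⟨K, hK, -⟩ := D.exists_oddPart_three hz hyz hy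
  have hKy : ∀ k ∈ K, Commute k y := fun k hk => Subgroup.mem_centralizer_singleton_iff.1 (hK.le hk)
  haveI : Group.IsSolvable K := CfsgLib.PF.oddSolvable K hK.odd
  have hKn : ∀ g : G, Commute g y → ∀ k ∈ K, g * k * g⁻¹ ∈ K := fun g hg k hk =>
    hK.conj_mem hk (Subgroup.mem_centralizer_singleton_iff.2
      (((hg.mul_left (hKy k hk)).mul_left hg.inv_left)).eq)
  -- cores for primes other than three
  have hcore : ∀ p : (Nat.card K).primeFactors, (p : ℕ) ≠ 3 → Cfsg.pCore (p : ℕ) K = ⊥ := by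
    intro p hp3
    by_contra hne
    have hp := Nat.prime_of_mem_primeFactors p.2
    have hpd := Nat.dvd_of_mem_primeFactors p.2
    haveI : Fact (p : ℕ).Prime := ⟨hp⟩
    have hp2 : (p : ℕ) ≠ 2 := fun e => by
      rw [e] at hpd
      exact Nat.not_even_iff_odd.2 hK.odd (even_iff_two_dvd.2 hpd)
    have h5 : 5 ≤ (p : ℕ) := by
      have h2 := hp.two_le
      have h4 : (p : ℕ) ≠ 4 := fun e => by rw [e] at hp; exact (by norm_num : ¬ Nat.Prime 4) hp
      omega
    obtain ⟨⟨u, huK⟩, hu⟩ := exists_prime_orderOf_dvd_card' (p : ℕ) hpd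
    rw [Subgroup.orderOf_mk] at hu
    have hdG : (p : ℕ) ∣ Nat.card G := hu ▸ orderOf_dvd_natCard u
    have hcases : (p : ℕ) ∣ Fintype.card F + 1 := by
      rcases D.prime_cases hp h5 hdG with h | h | h
      · exfalso
        refine D.no_mixed (y * u) p hp h ?_
        rw [(hKy u huK).symm.orderOf_mul_eq_mul_orderOf_of_coprime (by
          rw [hy, hu]; exact (Nat.coprime_primes Nat.prime_three hp).2 (Ne.symm hp3)), hy, hu]
      · exact absurd (hKy u huK).symm (D.not_commute_minus hp h5 h hy hu)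
      · exact h
    refine D.false_of_normalized hp h5 hcases hz hyz hy ((Cfsg.pCore (p : ℕ) K).map K.subtype)
      ((CfsgLib.Fitting.pCore_isPGroup (p : ℕ)).map _)
      (fun e => hne ((Subgroup.map_eq_bot_iff_of_injective _ K.subtype_injective).1 e))
      (fun c hc => hKy c (Subgroup.map_subtype_le _ hc)) fun g hg c hc => ?_
    obtain ⟨c, hc, rfl⟩ := hc
    have hgK : g ∈ Subgroup.normalizer (K : Set G) :=
      CfsgLib.SL2Tori.mem_normalizer_of_conj_mem (hKn g hg)
    refine ⟨Subgroup.normalizerMonoidHom K ⟨g, hgK⟩ c, ?_, rfl⟩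
    have := CfsgLib.Fitting.pCore_map_mulEquiv (p : ℕ) (Subgroup.normalizerMonoidHom K ⟨g, hgK⟩)
    rw [← this]
    exact ⟨c, hc, rfl⟩
  have hF : Cfsg.fittingSubgroup K ≤ Cfsg.pCore 3 K := by
    rw [CfsgLib.Fitting.fitting_eq_iSup_pCore]
    refine iSup_le fun p => ?_
    by_cases hp3 : (p : ℕ) = 3
    · rw [hp3]
    · rw [hcore p hp3]; exact bot_le
  have hcent : Subgroup.centralizer (Cfsg.pCore 3 K : Set K) ≤ Cfsg.pCore 3 K :=
    ((Subgroup.centralizer_le hF).trans CfsgLib.Fitting.centralizer_fitting_le).trans hF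
  -- every 3-element of `K` lies in the core
  have hin : ∀ a : K, ∀ j, a ^ (3 ^ j) = 1 → a ∈ Cfsg.pCore 3 K := by
    intro a j hj
    obtain ⟨i, -, hi⟩ := (Nat.dvd_prime_pow Nat.prime_three).1 (orderOf_dvd_of_pow_eq_one hj)
    obtain ⟨S, hS⟩ := (IsPGroup.of_card (n := i) (by rw [Nat.card_zpowers, hi]) :
      IsPGroup 3 (Subgroup.zpowers a)).exists_le_sylow
    haveI := CfsgLib.Fitting.pCore_normal (G := K) 3
    have hle : Cfsg.pCore 3 K ≤ (S : Subgroup K) :=
      le_sup_left.trans_eq (S.is_maximal'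
        ((CfsgLib.Fitting.pCore_isPGroup (G := K) 3).to_sup_of_normal_left S.isPGroup') le_sup_right)
    refine hcent (Subgroup.mem_centralizer_iff.2 fun b hb => ?_)
    exact Subtype.ext (D.three_group_comm (S.isPGroup'.map K.subtype)
      ⟨b, hle hb, rfl⟩ ⟨a, hS (Subgroup.mem_zpowers a), rfl⟩).eq
  have hPle : (P : Subgroup G) ≤ (Cfsg.pCore 3 K).map K.subtype := by
    intro a ha
    obtain ⟨j, hj⟩ := P.isPGroup' ⟨a, ha⟩
    have hj' : a ^ (3 ^ j) = 1 := congrArg Subtype.val hj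
    have haK : a ∈ K :=
      hK.mem a (Subgroup.mem_centralizer_singleton_iff.2 (hPy a ha).eq) (odd_three hj')
    exact ⟨⟨a, haK⟩, hin _ j (Subtype.ext hj'), rfl⟩
  have hPeq := P.is_maximal' ((CfsgLib.Fitting.pCore_isPGroup (G := K) 3).map K.subtype) hPle
  refine ⟨P, hyP, hPy, fun a j ha hj => ?_⟩
  show a ∈ (P : Subgroup G)
  rw [← hPeq]
  have haK : a ∈ K := hK.mem a (Subgroup.mem_centralizer_singleton_iff.2 ha.eq) (odd_three hj)
  exact ⟨⟨a, haK⟩, hin _ j (Subtype.ext hj), rfl⟩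

end Setup

end CfsgLib.ReeAbelian
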