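import Cfsg.Agent.Lib.Characters.Exceptional
import Cfsg.Agent.Lib.Characters.Induction
import Cfsg.Agent.Lib.Characters.LinearTwist
import Cfsg.Agent.Lib.TwoDegrees.Basic
import Cfsg.Agent.Lib.BSW.Dual

/-!
# Exceptional characters at an abelian TI Sylow subgroup of a doubly transitive configuration

If `P` is abelian, trivial intersection, `N(P) = P ⋊ H`, `|G| = |N(P)| (|P| + 1)` and `H` moves
many linear characters of `P` freely, then an irreducible character of `G` restricts to `P` as the
sum of one free orbit; so `G` is not simple when such an orbit is trivial on a non-trivial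
`H`-invariant subgroup of `P`.
-/

set_option autoImplicit false
set_option linter.style.haveILetI false

noncomputable section

namespace CfsgLib.ReeAbelian

open Cfsg CfsgLib.Characters CfsgLib.Induction
open scoped ComplexConjugate

universe u

variable {G : Type u} [Group G]

/-- The configuration of the subgroups `P`, `H`. -/
structure TIData (P H : Subgroup G) : Prop where
  comm : ∀ a ∈ P, ∀ b ∈ P, a * b = b * a
  ti : ∀ g : G, ∀ x ∈ P, x ≠ 1 → g * x * g⁻¹ ∈ P → g ∈ Subgroup.normalizer (P : Set G)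
  le : H ≤ Subgroup.normalizer (P : Set G)
  split : ∀ n ∈ Subgroup.normalizer (P : Set G), ∃ p ∈ P, ∃ h ∈ H, n = p * h
  disj : ∀ x ∈ P, x ∈ H → x = 1
  card : Nat.card G = Nat.card P * Nat.card H * (Nat.card P + 1)

variable {P H : Subgroup G}

/-- Conjugation of linear characters. -/
def TIData.act (D : TIData P H) (h : H) (l : ↥P →* ℂˣ) : ↥P →* ℂˣ :=
  l.comp (Subgroup.normalizerMonoidHom P ⟨(h : G), D.le h.2⟩).toMonoidHom

theorem TIData.act_apply (D : TIData P H) (h : H) (l : ↥P →* ℂˣ) (x : ↥P) :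
    D.act h l x = l ⟨(h : G) * x * (h : G)⁻¹,
      (Subgroup.mem_normalizer_iff.1 (D.le h.2) x).1 x.2⟩ := rfl

theorem TIData.act_one (D : TIData P H) (l : ↥P →* ℂˣ) : D.act 1 l = l :=
  MonoidHom.ext fun x => by
    rw [D.act_apply]
    exact congrArg l (Subtype.ext (by simp))

theorem TIData.act_mul (D : TIData P H) (a b : H) (l : ↥P →* ℂˣ) :
    D.act (a * b) l = D.act b (D.act a l) :=
  MonoidHom.ext fun x => by
    rw [D.act_apply, D.act_apply, D.act_apply]
    exact congrArg l (Subtype.ext (by simp only [Subgroup.coe_mul]; group))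

/-- A linear character as a function. -/
def lin (l : ↥P →* ℂˣ) : ↥P → ℂ := fun x => (l x : ℂ)

/-- Freely moved linear characters. -/
def TIData.Free (D : TIData P H) (l : ↥P →* ℂˣ) : Prop := ∀ h : H, h ≠ 1 → D.act h l ≠ l

variable [Fintype G]

local instance subFintype (K : Subgroup G) : Fintype ↥K := Fintype.ofFinite _

theorem classInner_lin (m l : ↥P →* ℂˣ) [Decidable (m = l)] :
    classInner (lin m) (lin l) = if m = l then 1 else 0 := by
  classical
  let a : IrrCharacter ↥P := ⟨_, isIrrCharacter_of_hom m⟩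
  let b : IrrCharacter ↥P := ⟨_, isIrrCharacter_of_hom l⟩
  have h := classInner_irr a b
  rw [show classInner (lin m) (lin l) = classInner (a : ↥P → ℂ) b from rfl, h]
  refine if_congr ⟨fun e => MonoidHom.ext fun x => Units.ext ?_, fun e => ?_⟩ rfl rfl
  · exact congrFun (congrArg Subtype.val e) x
  · subst e; rfl

/-- The induced linear character. -/
def ind (l : ↥P →* ℂˣ) : G → ℂ := indFun P (lin l)

theorem ind_isCharacter (l : ↥P →* ℂˣ) : IsCharacter G (ind l) :=
  isCharacter_indFun P (isCharacter_of_irr (isIrrCharacter_of_hom l))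

/-- The restriction of an induced linear character to `P`. -/
theorem TIData.res_ind (D : TIData P H) (l : ↥P →* ℂˣ) [DecidableEq ↥P] (x : ↥P) :
    ind l (x : G) = ∑ h : H, (D.act h l x : ℂ) +
      (Nat.card H : ℂ) * (if x = 1 then (Nat.card P : ℂ) else 0) := by
  classical
  have hP0 : (Nat.card P : ℂ) ≠ 0 := natCard_ne_zero'
  by_cases hx : x = 1
  · subst hx
    rw [if_pos rfl, ind, show ((1 : ↥P) : G) = 1 from rfl, indFun_one_apply]
    have hidx : P.index = Nat.card H * (Nat.card P + 1) := by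
      have h := P.card_mul_index
      rw [D.card, mul_assoc] at h
      exact Nat.eq_of_mul_eq_mul_left Nat.card_pos h
    simp only [lin, map_one, Units.val_one, mul_one, hidx, Finset.sum_const, Finset.card_univ,
      nsmul_eq_mul, ← Nat.card_eq_fintype_card]
    push_cast
    ring
  · rw [if_neg hx, mul_zero, add_zero, ind, indFun_apply]
    have hx1 : (x : G) ≠ 1 := fun e => hx (Subtype.ext e)
    let e : ↥P × H → G := fun a => (a.1 : G) * (a.2 : G)
    have he : Function.Injective e := by
      rintro ⟨p, h⟩ ⟨p', h'⟩ hh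
      simp only [e] at hh
      have h1 : (p' : G)⁻¹ * p = (h' : G) * (h : G)⁻¹ := by
        calc (p' : G)⁻¹ * p = (p' : G)⁻¹ * ((p : G) * h) * (h : G)⁻¹ := by group
          _ = (h' : G) * (h : G)⁻¹ := by rw [hh]; group
      have h2 := D.disj _ (P.mul_mem (P.inv_mem p'.2) p.2) (by
        rw [h1]; exact H.mul_mem h'.2 (H.inv_mem h.2))
      have hp : (p' : G) = p := inv_mul_eq_one.1 h2
      refine Prod.ext (Subtype.ext hp.symm) (Subtype.ext ?_)
      rw [← hp] at hh
      exact mul_left_cancel hh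
    have hsum : ∑ g : G, extendByZero P (lin l) (g⁻¹ * (x : G) * g) =
        ∑ a : ↥P × H, extendByZero P (lin l) ((e a)⁻¹ * (x : G) * e a) := by
      rw [← Finset.sum_image (f := fun g => extendByZero P (lin l) (g⁻¹ * (x : G) * g))
        (g := e) fun a _ b _ h => he h]
      refine (Finset.sum_subset (Finset.subset_univ _) fun g _ hg => ?_).symm
      refine extendByZero_notMem P _ fun hmem => hg (Finset.mem_image.2 ?_)
      have hn : g⁻¹ ∈ Subgroup.normalizer (P : Set G) :=
        D.ti g⁻¹ x x.2 hx1 (by rwa [inv_inv])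
      obtain ⟨p, hp, h, hh, e'⟩ := D.split g ((Subgroup.inv_mem_iff _).1 hn)
      exact ⟨(⟨p, hp⟩, ⟨h, hh⟩), Finset.mem_univ _, e'.symm⟩
    have hterm : ∀ a : ↥P × H, extendByZero P (lin l) ((e a)⁻¹ * (x : G) * e a) =
        (D.act a.2⁻¹ l x : ℂ) := by
      intro a
      have h1 : (e a)⁻¹ * (x : G) * e a =
          ((a.2⁻¹ : H) : G) * x * ((a.2⁻¹ : H) : G)⁻¹ := by
        simp only [e, Subgroup.coe_inv, inv_inv]
        calc ((a.1 : G) * (a.2 : G))⁻¹ * (x : G) * ((a.1 : G) * a.2)
            = (a.2 : G)⁻¹ * ((a.1 : G)⁻¹ * ((x : G) * a.1)) * a.2 := by group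
          _ = (a.2 : G)⁻¹ * x * a.2 := by
              rw [D.comm x x.2 a.1 a.1.2, inv_mul_cancel_left]
      rw [h1, extendByZero_mem P _ ((Subgroup.mem_normalizer_iff.1 (D.le a.2⁻¹.2) x).1 x.2),
        D.act_apply]
      rfl
    rw [hsum, Finset.sum_congr rfl fun a _ => hterm a, Fintype.sum_prod_type]
    dsimp only
    rw [Finset.sum_const,
      Finset.card_univ, nsmul_eq_mul, ← Nat.card_eq_fintype_card, inv_mul_cancel_left₀ hP0]
    exact Equiv.sum_comp (Equiv.inv H) fun h => (D.act h l x : ℂ)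

/-- Inner products of induced linear characters. -/
theorem TIData.inner_ind (D : TIData P H) (m l : ↥P →* ℂˣ) :
    classInner (ind m) (ind l) =
      ((Nat.card {h : H // D.act h l = m} + Nat.card H : ℕ) : ℂ) := by
  classical
  have hP0 : (Nat.card P : ℂ) ≠ 0 := natCard_ne_zero'
  let δ : ↥P → ℂ := fun x => if x = 1 then (Nat.card P : ℂ) else 0
  have hres : (fun x : ↥P => ind l (x : G)) =
      ∑ h : H, lin (D.act h l) + (Nat.card H : ℂ) • δ := by
    funext x
    rw [D.res_ind l x, Pi.add_apply, Finset.sum_apply, Pi.smul_apply, smul_eq_mul]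
    rfl
  have hδ : classInner (lin m) δ = 1 := by
    simp only [classInner, δ, lin, apply_ite (conj : ℂ →+* ℂ), map_natCast, map_zero, mul_ite,
      mul_zero, Finset.sum_ite_eq', Finset.mem_univ, if_true, map_one, Units.val_one, one_mul]
    exact inv_mul_cancel₀ hP0
  rw [show classInner (ind m) (ind l) = classInner (lin m) (fun x : ↥P => ind l (x : G)) from
    classInner_indFun P _ (isClassFunction_indFun P _), hres,
    classInner_add_right, classInner_sum_right, classInner_smul_right, hδ, map_natCast, mul_one,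
    Nat.cast_add]
  congr 1
  rw [Finset.sum_congr rfl fun h _ => classInner_lin m (D.act h l),
    Finset.sum_congr rfl fun h _ => if_congr (eq_comm (a := m)) rfl rfl, Finset.sum_boole,
    Nat.card_eq_fintype_card, Fintype.card_subtype]

theorem TIData.inner_ne (D : TIData P H) {m l : ↥P →* ℂˣ} (h : ∀ k : H, D.act k l ≠ m) :
    classInner (ind m) (ind l) = (Nat.card H : ℂ) := by
  rw [D.inner_ind, show Nat.card {k : H // D.act k l = m} = 0 from
    Nat.card_eq_zero.2 (Or.inl ⟨fun k => h k.1 k.2⟩), Nat.zero_add]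

theorem TIData.inner_self (D : TIData P H) {l : ↥P →* ℂˣ} (hl : D.Free l) :
    classInner (ind l) (ind l) = (Nat.card H : ℂ) + 1 := by
  haveI : Unique {k : H // D.act k l = l} :=
    ⟨⟨⟨1, D.act_one l⟩⟩, fun k => Subtype.ext (by_contra fun hk => hl k.1 hk k.2)⟩
  rw [D.inner_ind, Nat.card_unique, Nat.cast_add, Nat.cast_one, add_comm]

/-- The multiplicity of a linear character in the restriction of `χ`. -/
def coef (χ : IrrCharacter G) (l : ↥P →* ℂˣ) : ℕ :=
  (classInner_char_nat (ind_isCharacter (P := P) l) (irr_isCharacter χ)).choose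

theorem coef_spec (χ : IrrCharacter G) (l : ↥P →* ℂˣ) :
    classInner (ind l) (χ : G → ℂ) = (coef χ l : ℂ) :=
  (classInner_char_nat (ind_isCharacter (P := P) l) (irr_isCharacter χ)).choose_spec

theorem coef_res (χ : IrrCharacter G) (l : ↥P →* ℂˣ) :
    classInner (fun x : ↥P => (χ : G → ℂ) x) (lin l) = (coef χ l : ℂ) := by
  rw [classInner_swap, ← classInner_indFun P _ (irr_isClassFunction χ),
    show indFun P (lin l) = ind l from rfl, coef_spec, map_natCast]

theorem sum_coef_sq (l : ↥P →* ℂˣ) :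
    classInner (ind l) (ind l) = ((∑ χ : IrrCharacter G, (coef χ l) ^ 2 : ℕ) : ℂ) := by
  rw [classInner_self_eq_sum_sq (φ := ind l) (isClassFunction_indFun P _)
    (m := fun χ => (coef χ l : ℤ)) (fun χ => by rw [coef_spec, Int.cast_natCast])]
  push_cast
  rfl

theorem TIData.coef_act (D : TIData P H) (χ : IrrCharacter G) (k : H) (l : ↥P →* ℂˣ) :
    coef χ (D.act k l) = coef χ l := by
  have h : classInner (fun x : ↥P => (χ : G → ℂ) x) (lin (D.act k l)) =
      classInner (fun x : ↥P => (χ : G → ℂ) x) (lin l) := by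
    simp only [classInner]
    congr 1
    refine Fintype.sum_equiv (Subgroup.normalizerMonoidHom P ⟨(k : G), D.le k.2⟩).toEquiv _ _
      fun x => ?_
    show _ = (χ : G → ℂ) ((k : G) * x * (k : G)⁻¹) * _
    rw [irr_isClassFunction χ (x : G) k]
    rfl
  rw [coef_res, coef_res] at h
  exact_mod_cast h

/-- A free orbit gives an exceptional character with that restriction. -/
theorem TIData.exists_exceptional (D : TIData P H) (l0 : ↥P →* ℂˣ) (h0 : D.Free l0)
    (hmany : (2 * Nat.card H + 2) * Nat.card H < Nat.card {l : ↥P →* ℂˣ // D.Free l}) :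
    ∃ χ : IrrCharacter G, coef χ l0 = 1 ∧
      ∀ m : ↥P →* ℂˣ, (∀ k : H, D.act k l0 ≠ m) → coef χ m = 0 := by
  classical
  let Fr := {l : ↥P →* ℂˣ // D.Free l}
  haveI : Finite (↥P →* ℂˣ) := CfsgLib.LinearTwist.finite_unitsHom
  let s : Setoid Fr := ⟨fun a b => ∃ k : H, D.act k a.1 = b.1,
    ⟨fun a => ⟨1, D.act_one _⟩, fun {a b} ⟨k, hk⟩ => ⟨k⁻¹, by
      rw [← hk, ← D.act_mul, mul_inv_cancel, D.act_one]⟩, fun {a b c} ⟨k, hk⟩ ⟨k', hk'⟩ =>
      ⟨k * k', by rw [D.act_mul, hk, hk']⟩⟩⟩
  let ι := Quotient s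
  haveI : Fintype ι := Fintype.ofFinite _
  let i₀ : ι := Quotient.mk s ⟨l0, h0⟩
  let rep : ι → ↥P →* ℂˣ := fun i => if i = i₀ then l0 else i.out.1
  have hrepF : ∀ i, D.Free (rep i) := fun i => by
    simp only [rep]; split_ifs
    · exact h0
    · exact i.out.2
  have hrepi : ∀ i, Quotient.mk s ⟨rep i, hrepF i⟩ = i := fun i => by
    by_cases hi : i = i₀
    · subst hi; simp only [rep, if_true]; rfl
    · simp only [rep, if_neg hi]; exact i.out_eq
  have hne : ∀ i j, i ≠ j → ∀ k : H, D.act k (rep i) ≠ rep j := fun i j hij k hk =>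
    hij ((hrepi i).symm.trans ((Quotient.sound (s := s)
      (a := ⟨rep i, hrepF i⟩) (b := ⟨rep j, hrepF j⟩) ⟨k, hk⟩).trans (hrepi j)))
  have hr0 : rep i₀ = l0 := if_pos rfl
  -- the number of orbits
  have hm : 2 * Nat.card H + 2 < Fintype.card ι := by
    have hsur : Function.Surjective
        (fun a : H × ι => (⟨D.act a.1 (rep a.2), fun k hk => by
          intro e
          have h1 : D.act (a.1 * k * a.1⁻¹) (rep a.2) = rep a.2 := by
            rw [D.act_mul, D.act_mul, e, ← D.act_mul, mul_inv_cancel, D.act_one]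
          exact hrepF a.2 _ (fun e1 => hk (by simpa using e1)) h1⟩ : Fr)) := fun l => by
      obtain ⟨k, hk⟩ := Quotient.exact (s := s) (hrepi (Quotient.mk s l))
      exact ⟨(k, Quotient.mk s l), Subtype.ext hk⟩
    have hle := Nat.card_le_card_of_surjective _ hsur
    rw [Nat.card_prod, mul_comm, Nat.card_eq_fintype_card (α := ι)] at hle
    exact Nat.lt_of_mul_lt_mul_right (hmany.trans_le hle)
  let τ : ι → G → ℂ := fun i => ind (rep i) - ind (rep i₀)
  have hgen : ∀ i, IsGeneralizedCharacter G (τ i) := fun i =>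
    ⟨_, _, ind_isCharacter _, ind_isCharacter _, rfl⟩
  have hone : ∀ i, τ i 1 = 0 := fun i => by
    simp [τ, ind, indFun_one_apply, lin]
  have hin : ∀ i j, classInner (ind (rep i)) (ind (rep j)) =
      (Nat.card H : ℂ) + if i = j then 1 else 0 := by
    intro i j
    by_cases hij : i = j
    · subst hij; rw [if_pos rfl, D.inner_self (hrepF i)]
    · rw [if_neg hij, add_zero, D.inner_ne (hne j i (Ne.symm hij))]
  have hτ : ∀ i j, classInner (τ i) (τ j) = ((if i = j then (1 : ℂ) else 0) -
      (if i = i₀ then 1 else 0)) - ((if i₀ = j then 1 else 0) - 1) := by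
    intro i j
    simp only [τ, classInner_sub_left, classInner_sub_right, hin, if_true]
    ring
  obtain ⟨ε, hε, μ, hμ, hτμ⟩ := CfsgLib.CharExceptional.exceptional_family i₀ τ
    (by simp [τ]) hgen hone
    (fun i hi => by rw [hτ, if_pos rfl, if_neg hi, if_neg (Ne.symm hi)]; norm_num)
    (fun i j hi hj hij => by rw [hτ, if_neg hij, if_neg hi, if_neg (Ne.symm hj)]; norm_num)
  -- coefficients of the first induced character
  have hc : ∀ i, i ≠ i₀ →
      (coef (μ i) (rep i₀) : ℂ) = (coef (μ i₀) (rep i₀) : ℂ) - ε := by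
    intro i hi
    have h := congrArg (classInner (ind (rep i₀))) (hτμ i)
    simp only [τ, classInner_sub_right, classInner_smul_right, coef_spec, hin,
      if_neg (Ne.symm hi), if_true] at h
    rcases hε with e | e <;> subst e <;> simp only [map_one, map_neg, one_mul, neg_one_mul] at h
    · linear_combination -h
    · linear_combination h
  haveI : Nontrivial ι := Fintype.one_lt_card_iff_nontrivial.1 (by omega)
  obtain ⟨j₀, hj₀⟩ := exists_ne i₀
  let c := coef (μ j₀) (rep i₀)
  have hci : ∀ i, i ≠ i₀ → coef (μ i) (rep i₀) = c := fun i hi => by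
    exact_mod_cast (hc i hi).trans (hc j₀ hj₀).symm
  have hnorm : ∑ i : ι, (coef (μ i) (rep i₀)) ^ 2 ≤ Nat.card H + 1 := by
    have h := sum_coef_sq (rep i₀)
    rw [D.inner_self (hrepF i₀)] at h
    have h' : Nat.card H + 1 = ∑ χ : IrrCharacter G, (coef χ (rep i₀)) ^ 2 := by exact_mod_cast h
    rw [h', ← Finset.sum_image (f := fun χ => (coef χ (rep i₀)) ^ 2) fun a _ b _ e => hμ e]
    exact Finset.sum_le_sum_of_subset (Finset.subset_univ _)
  have hc0 : c = 0 := by
    by_contra hcne
    have h1 : ∀ i ∈ Finset.univ.erase i₀, 1 ≤ (coef (μ i) (rep i₀)) ^ 2 := fun i hi => by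
      rw [hci i (Finset.ne_of_mem_erase hi)]
      exact Nat.one_le_iff_ne_zero.2 (pow_ne_zero _ hcne)
    have h2 := (Finset.card_nsmul_le_sum _ _ _ h1).trans
      ((Finset.sum_le_sum_of_subset (Finset.subset_univ _)).trans hnorm)
    rw [Finset.card_erase_of_mem (Finset.mem_univ _), Finset.card_univ, smul_eq_mul, mul_one] at h2
    omega
  have h0' : ε = 1 ∧ coef (μ i₀) (rep i₀) = 1 := by
    have h := hc j₀ hj₀
    rw [show coef (μ j₀) (rep i₀) = 0 from hc0, Nat.cast_zero, eq_comm, sub_eq_zero] at h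
    rcases hε with e | e <;> subst e
    · exact ⟨rfl, by exact_mod_cast h⟩
    · exfalso
      have h' : ((coef (μ i₀) (rep i₀) : ℤ) : ℂ) = ((-1 : ℤ) : ℂ) := by push_cast; exact h
      have := Int.cast_injective h'
      omega
  obtain ⟨rfl, h01⟩ := h0'
  refine ⟨μ i₀, by rw [← hr0]; exact h01, fun m hm' => ?_⟩
  by_cases hmF : D.Free m
  · -- another free orbit
    let j := Quotient.mk s ⟨m, hmF⟩
    have hj : j ≠ i₀ := fun e => by
      obtain ⟨k, hk⟩ := Quotient.exact (s := s) e.symm
      exact hm' k hk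
    obtain ⟨k, hk⟩ := Quotient.exact (s := s) (hrepi j)
    rw [show m = D.act k (rep j) from hk.symm, D.coef_act]
    have h := congrArg (fun f => classInner f (μ i₀ : G → ℂ)) (hτμ j)
    simp only [τ, one_smul, classInner_sub_left, coef_spec, h01, classInner_irr, if_true,
      if_neg (fun e => hj (hμ e))] at h
    have h' : (coef (μ i₀) (rep j) : ℂ) = 0 := by linear_combination h
    exact_mod_cast h'
  · -- a character that is not free
    have hno : ∀ i, ∀ k : H, D.act k (rep i) ≠ m := by
      intro i k hk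
      refine hmF fun a ha e => ?_
      have h1 : D.act (k * a * k⁻¹) (rep i) = rep i := by
        rw [D.act_mul, D.act_mul, hk, e, ← hk, ← D.act_mul, mul_inv_cancel, D.act_one]
      exact hrepF i _ (fun e1 => ha (by simpa using e1)) h1
    have heq : ∀ i, coef (μ i) m = coef (μ i₀) m := by
      intro i
      have h := congrArg (classInner (ind m)) (hτμ i)
      simp only [τ, one_smul, classInner_sub_right, coef_spec, D.inner_ne (hno i),
        D.inner_ne (hno i₀), sub_self] at h
      exact_mod_cast sub_eq_zero.1 h.symm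
    have hle : ∑ i : ι, (coef (μ i) m) ^ 2 ≤ 2 * Nat.card H := by
      have h := sum_coef_sq m
      rw [D.inner_ind] at h
      have h' : Nat.card {k : H // D.act k m = m} + Nat.card H =
          ∑ χ : IrrCharacter G, (coef χ m) ^ 2 := by exact_mod_cast h
      have hst : Nat.card {k : H // D.act k m = m} ≤ Nat.card H :=
        Nat.card_le_card_of_injective _ Subtype.val_injective
      refine le_trans ?_ (show ∑ χ : IrrCharacter G, (coef χ m) ^ 2 ≤ _ by omega)
      rw [← Finset.sum_image (f := fun χ => (coef χ m) ^ 2) fun a _ b _ e => hμ e]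
      exact Finset.sum_le_sum_of_subset (Finset.subset_univ _)
    rw [Finset.sum_congr rfl fun i _ => congrArg (· ^ 2) (heq i), Finset.sum_const,
      Finset.card_univ, smul_eq_mul] at hle
    by_contra hne0
    have : 1 ≤ (coef (μ i₀) m) ^ 2 := Nat.one_le_iff_ne_zero.2 (pow_ne_zero _ hne0)
    nlinarith

/-- No simple group has this configuration with a free orbit trivial on an invariant subgroup. -/
theorem TIData.false_of_simple (D : TIData P H) [IsSimpleGroup G]
    (hmany : (2 * Nat.card H + 2) * Nat.card H < Nat.card {l : ↥P →* ℂˣ // D.Free l})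
    (E : Subgroup G) {e : G} (he : e ∈ E) (heP : e ∈ P) (he1 : e ≠ 1)
    (hEH : ∀ k ∈ H, ∀ a ∈ E, k * a * k⁻¹ ∈ E)
    (l0 : ↥P →* ℂˣ) (h0 : D.Free l0) (hl0 : l0 ≠ 1)
    (hl0E : ∀ a : ↥P, (a : G) ∈ E → l0 a = 1) : False := by
  classical
  obtain ⟨χ, hχ1, hχ0⟩ := D.exists_exceptional l0 h0 hmany
  -- `χ` is constant on the cosets of `E` in `P`
  let f : ↥P → ℂ := fun x => (χ : G → ℂ) ((x : G) * e) - (χ : G → ℂ) x
  have hcl : IsClassFunction ↥P f := fun a b => by
    congr 1
    exact Subtype.ext (by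
      simp only [Subgroup.coe_mul, Subgroup.coe_inv]
      rw [D.comm b b.2 a a.2, mul_inv_cancel_right])
  have hf : f = 0 := by
    refine eq_zero_of_forall_classInner_eq_zero hcl fun θ => ?_
    have hd : charDegree (θ : ↥P → ℂ) = 1 := by
      have h := CfsgLib.TwoDegrees.deg_le_index (⊤ : Subgroup ↥P)
        (fun a _ b _ => Subtype.ext (D.comm a a.2 b b.2)) θ
      rw [Subgroup.index_top] at h
      have := CfsgLib.CharCorr.charDegree_irr_pos θ
      omega
    obtain ⟨m, hm⟩ := CfsgLib.LinearTwist.exists_hom_of_charDegree_one (irr_isCharacter θ) hd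
    rw [show (θ : ↥P → ℂ) = lin m from hm]
    let e' : ↥P := ⟨e, heP⟩
    have hshift : classInner (fun x : ↥P => (χ : G → ℂ) ((x : G) * e)) (lin m) =
        (m e' : ℂ) * (coef χ m : ℂ) := by
      rw [← coef_res]
      simp only [classInner]
      rw [mul_left_comm, Finset.mul_sum (a := (m e' : ℂ))]
      congr 1
      refine Fintype.sum_equiv (Equiv.mulRight e') _ _ fun x => ?_
      show _ = _ * ((χ : G → ℂ) ((x * e' : ↥P) : G) * conj (m (x * e') : ℂ))
      have hu : (m e' : ℂ) * conj (m e' : ℂ) = 1 := by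
        rw [CfsgLib.BSW.conj_dual, ← Units.val_mul, ← MonoidHom.mul_apply, mul_inv_cancel]
        rfl
      rw [map_mul, Units.val_mul, map_mul]
      calc (χ : G → ℂ) ((x : G) * e) * conj (lin m x)
          = (χ : G → ℂ) ((x : G) * e) * conj (lin m x) * ((m e' : ℂ) * conj (m e' : ℂ)) := by
            rw [hu, mul_one]
        _ = _ := by simp only [lin, e', Subgroup.coe_mul]; ring
    show classInner (fun x : ↥P => (χ : G → ℂ) ((x : G) * e) - (χ : G → ℂ) x) (lin m) = 0
    rw [show (fun x : ↥P => (χ : G → ℂ) ((x : G) * e) - (χ : G → ℂ) x) =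
      (fun x : ↥P => (χ : G → ℂ) ((x : G) * e)) - fun x : ↥P => (χ : G → ℂ) x from rfl,
      classInner_sub_left, hshift, coef_res]
    by_cases hmc : ∃ k : H, D.act k l0 = m
    · obtain ⟨k, rfl⟩ := hmc
      rw [D.act_apply, hl0E _ (hEH k k.2 e he)]
      simp
    · rw [hχ0 m (fun k hk => hmc ⟨k, hk⟩)]
      simp
  have hker : (χ : G → ℂ) e = (χ : G → ℂ) 1 := by
    have h := congrFun hf 1
    simpa [f, sub_eq_zero] using h
  obtain ⟨χf, n, ρ, hρ, rfl⟩ := χ
  have hρe : ρ e = LinearMap.id :=
    (char_eq_degree_iff ρ e).1 (hker.trans (Representation.char_one ρ))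
  have hk : ρ.ker = ⊤ :=
    (IsSimpleGroup.eq_bot_or_eq_top_of_normal _ inferInstance).resolve_left fun h => by
      have hem : e ∈ ρ.ker := hρe
      rw [h] at hem
      exact he1 hem
  have hconst : (fun x : ↥P => ρ.character (x : G)) = ρ.character 1 • lin (1 : ↥P →* ℂˣ) := by
    funext x
    have hx : ρ (x : G) = ρ 1 := by
      rw [map_one]
      exact (hk ▸ Subgroup.mem_top (x : G) : (x : G) ∈ ρ.ker)
    simp [lin, Representation.character, hx]
  have h := coef_res ⟨ρ.character, n, ρ, hρ, rfl⟩ l0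
  rw [hχ1, show (fun x : ↥P => ((⟨ρ.character, n, ρ, hρ, rfl⟩ : IrrCharacter G) : G → ℂ) x) =
    ρ.character 1 • lin (1 : ↥P →* ℂˣ) from hconst, classInner_smul_left, classInner_lin,
    if_neg (Ne.symm hl0), mul_zero, Nat.cast_one] at h
  exact zero_ne_one h

end CfsgLib.ReeAbelian
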