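import Cfsg.Agent.Lib.Walter.ReeAbelian.Adapter
import Cfsg.Agent.Lib.ReeReal.Data

/-!
# Simple groups with all Sylow subgroups abelian: the Ree local data
-/

set_option autoImplicit false

namespace CfsgLib.ReeAbelian

universe u

theorem localGoal : LocalGoal.{u} := by
  intro G _ _ F _ _ _ t K m _ hF _
  obtain ⟨m', D⟩ := K.exists_reeLocal
  have h : m' = m := by
    have := Nat.pow_right_injective (le_refl 2 |>.trans (by norm_num : 2 ≤ 3)) (D.card_F.symm.trans hF)
    omega
  exact h ▸ D

end CfsgLib.ReeAbelian
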