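import Cfsg.Agent.Lib.Walter.ReeAbelian.Setup

/-!
# Elements of order three commuting with involutions, and primes dividing `q - 1`
-/

set_option autoImplicit false
set_option linter.style.haveILetI false
set_option linter.unusedSectionVars false

noncomputable section

namespace CfsgLib.ReeAbelian

open Cfsg CfsgLib.ReeType

universe u

variable {G : Type u} [Group G] [Finite G] {F : Type} [Field F] [Fintype F] [DecidableEq F]
  [CharP F 3]

omit [Finite G] in
theorem exists_pow_three {x : G} {j : ℕ} (hx : x ^ (3 ^ j) = 1) (h1 : x ≠ 1) :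
    ∃ n : ℕ, orderOf (x ^ n) = 3 := by
  obtain ⟨i, -, hi⟩ := (Nat.dvd_prime_pow Nat.prime_three).1 (orderOf_dvd_of_pow_eq_one hx)
  have hi0 : i ≠ 0 := fun e => h1 (orderOf_eq_one_iff.1 (by rw [hi, e, pow_zero]))
  obtain ⟨l, rfl⟩ := Nat.exists_eq_succ_of_ne_zero hi0
  exact ⟨3 ^ l, by
    rw [orderOf_pow' _ (by positivity), hi, Nat.gcd_eq_right (pow_dvd_pow 3 (Nat.le_succ l)),
      pow_succ, Nat.mul_div_cancel_left _ (by positivity)]⟩

omit [Finite G] in
theorem odd_three {x : G} {j : ℕ} (hx : x ^ (3 ^ j) = 1) : Odd (orderOf x) :=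
  (Odd.pow ⟨1, rfl⟩).of_dvd_nat (orderOf_dvd_of_pow_eq_one hx)

namespace Setup

variable (D : Setup G F)
include D

theorem orderOf_kap_three {v x : G} (hv : orderOf v = 2) (hxv : Commute x v)
    (hx : orderOf x = 3) : orderOf (kap (D.cent hv) hxv) = 3 := by
  rw [orderOf_kap _ hxv (by rw [hx]; exact ⟨1, rfl⟩), hx]

/-- A 3-element centralized by an involution is not inverted inside that centralizer. -/
theorem eq_one_of_inverted {v s x : G} (hv : orderOf v = 2) (hsv : Commute s v) (hxv : Commute x v)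
    {j : ℕ} (hx : x ^ (3 ^ j) = 1) (hinv : s * x * s⁻¹ = x⁻¹) : x = 1 := by
  by_contra h1
  obtain ⟨n, hn⟩ := exists_pow_three hx h1
  have hnv : Commute (x ^ n) v := hxv.pow_left n
  have hinv' : s * x ^ n * s⁻¹ = (x ^ n)⁻¹ := by rw [← conj_pow, hinv, inv_pow]
  refine L2.no_invert_three D.q_facts.1 (i := kap (D.cent hv) hsv)
    (D.orderOf_kap_three hv hnv hn) ?_
  rw [← kap_inv, ← kap_inv, ← kap_mul, ← kap_mul]
  exact kap_congr _ _ _ hinv'

/-- A 2-element commuting with an involution and an element of order three centralized by it. -/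
theorem two_part_eq {v x a : G} (hv : orderOf v = 2) (hxv : Commute x v) (hx : orderOf x = 3)
    (hav : Commute a v) (hax : Commute a x) {k : ℕ} (hk : a ^ (2 ^ k) = 1) : a = 1 ∨ a = v := by
  refine eq_of_kap_one (D.cent hv) hav ?_
  by_contra h1
  have hsq : kap (D.cent hv) hav * kap (D.cent hv) hav = 1 :=
    L2.sq_one_of_two_pow D.q_facts.1 (k := k) (by
      rw [← kap_pow]
      exact (kap_congr _ _ (Commute.one_left v) hk).trans (map_one (D.cent hv).kappa))
  refine not_commute_three (orderOf_eq_prime (by rwa [pow_two]) h1)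
    (D.orderOf_kap_three hv hxv hx) ?_
  exact kap_commute _ _ _ hax

/-- The elementary abelian group of order `q` centralizing `v` and `x`. -/
def Ev {v x : G} (hv : orderOf v = 2) (hxv : Commute x v) : Subgroup G :=
  (Subgroup.centralizer ({kap (D.cent hv) hxv} :
    Set (Matrix.ProjectiveSpecialLinearGroup (Fin 2) F))).map (D.cent hv).up

theorem mem_Ev {v x a : G} (hv : orderOf v = 2) (hxv : Commute x v) (hx : orderOf x = 3) :
    a ∈ D.Ev hv hxv ↔ Commute a v ∧ Commute a x ∧ Odd (orderOf a) := by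
  have hxup := eq_up_of_odd (D.cent hv) hxv (by rw [hx]; exact ⟨1, rfl⟩)
  constructor
  · rintro ⟨k, hk, rfl⟩
    have hk' : Commute k (kap (D.cent hv) hxv) := Subgroup.mem_centralizer_singleton_iff.1 hk
    refine ⟨(D.cent hv).up_commute k, by rw [hxup]; exact hk'.map _, ?_⟩
    have h3 := (centralizer_three (D.orderOf_kap_three hv hxv hx)).2.2 k hk'
    exact (show Odd 3 from ⟨1, rfl⟩).of_dvd_nat
      (orderOf_dvd_of_pow_eq_one (by rw [← map_pow, h3, map_one]))
  · rintro ⟨hav, hax, ho⟩
    exact ⟨kap (D.cent hv) hav, Subgroup.mem_centralizer_singleton_iff.2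
      (kap_commute _ _ _ hax).eq, (eq_up_of_odd _ hav ho).symm⟩

theorem Ev_cube {v x a : G} (hv : orderOf v = 2) (hxv : Commute x v) (hx : orderOf x = 3)
    (ha : a ∈ D.Ev hv hxv) : a ^ 3 = 1 := by
  obtain ⟨k, hk, rfl⟩ := ha
  rw [← map_pow, (centralizer_three (D.orderOf_kap_three hv hxv hx)).2.2 k
    (Subgroup.mem_centralizer_singleton_iff.1 hk), map_one]

theorem Ev_comm {v x a b : G} (hv : orderOf v = 2) (hxv : Commute x v) (hx : orderOf x = 3)
    (ha : a ∈ D.Ev hv hxv) (hb : b ∈ D.Ev hv hxv) : Commute a b := by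
  obtain ⟨k, hk, rfl⟩ := ha
  obtain ⟨l, hl, rfl⟩ := hb
  exact Commute.map ((centralizer_three (D.orderOf_kap_three hv hxv hx)).2.1 k l
    (Subgroup.mem_centralizer_singleton_iff.1 hk) (Subgroup.mem_centralizer_singleton_iff.1 hl)) _

theorem card_Ev {v x : G} (hv : orderOf v = 2) (hxv : Commute x v) (hx : orderOf x = 3) :
    Nat.card (D.Ev hv hxv) = Fintype.card F := by
  rw [Ev, Subgroup.card_map_of_injective (D.cent hv).up_injective]
  exact (centralizer_three (D.orderOf_kap_three hv hxv hx)).1

theorem self_mem_Ev {v x : G} (hv : orderOf v = 2) (hxv : Commute x v) (hx : orderOf x = 3) :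
    x ∈ D.Ev hv hxv :=
  (D.mem_Ev hv hxv hx).2 ⟨hxv, Commute.refl x, by rw [hx]; exact ⟨1, rfl⟩⟩

/-- The odd part of the centralizer of an element of order three centralized by an involution. -/
theorem exists_oddPart_three {v x : G} (hv : orderOf v = 2) (hxv : Commute x v)
    (hx : orderOf x = 3) :
    ∃ K : Subgroup G, IsOddPart (Subgroup.centralizer ({x} : Set G)) K ∧
      Nat.card (Subgroup.centralizer ({x} : Set G)) = Nat.card K * 2 := by
  set C := Subgroup.centralizer ({x} : Set G)
  have hvC : v ∈ C := Subgroup.mem_centralizer_singleton_iff.2 hxv.symm.eq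
  obtain ⟨P, hPv, hP⟩ := CfsgLib.ReeType.exists_sylow_two (L := C) (t := ⟨v, hvC⟩)
    (by rwa [Subgroup.orderOf_mk]) (fun a ha k hk => by
      rcases D.two_part_eq hv hxv hx (congrArg Subtype.val ha.eq)
        (Subgroup.mem_centralizer_singleton_iff.1 a.2) (congrArg Subtype.val hk) with e | e
      · exact Or.inl (Subtype.ext e)
      · exact Or.inr (Subtype.ext e))
  obtain ⟨K, hK, hc⟩ := exists_oddPart P hP
  refine ⟨K, hK, hc.trans ?_⟩
  rw [show Nat.card P = Nat.card (Subgroup.zpowers (⟨v, hvC⟩ : C)) by rw [← hPv],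
    Nat.card_zpowers, Subgroup.orderOf_mk, hv]

/-- A 2-element commuting with `v` and normalizing `Ev` lies in `⟨v⟩`. -/
theorem two_part_normalizing {v x a : G} (hv : orderOf v = 2) (hxv : Commute x v)
    (hx : orderOf x = 3) (hav : Commute a v) (hn : Commute (a * x * a⁻¹) x) {k : ℕ}
    (hk : a ^ (2 ^ k) = 1) : a = 1 ∨ a = v := by
  refine eq_of_kap_one (D.cent hv) hav ?_
  set i := kap (D.cent hv) hav with hi
  set y := kap (D.cent hv) hxv with hy
  by_contra h1
  have hsq : i * i = 1 := L2.sq_one_of_two_pow D.q_facts.1 (k := k) (by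
    rw [hi, ← kap_pow]
    exact (kap_congr _ _ (Commute.one_left v) hk).trans (map_one (D.cent hv).kappa))
  have hy3 : orderOf y = 3 := D.orderOf_kap_three hv hxv hx
  have hcy : Commute (i * y * i⁻¹) y := by
    rw [hi, hy, ← kap_inv, ← kap_mul, ← kap_mul]
    exact kap_commute _ _ _ hn
  have hii : i⁻¹ = i := inv_eq_of_mul_eq_one_right hsq
  have hfix' : Commute i (y * (i * y * i⁻¹)) := by
    show _ = _
    rw [hii]
    calc i * (y * (i * y * i)) = i * (y * (i * y * i⁻¹)) := by rw [hii]
      _ = i * ((i * y * i⁻¹) * y) := by rw [hcy.eq]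
      _ = (i * i) * (y * i * y) := by rw [hii]; group
      _ = y * i * y := by rw [hsq, one_mul]
      _ = y * (i * y) * (i * i) := by rw [hsq, mul_one, mul_assoc]
      _ = y * (i * y * i) * i := by group
  by_cases hz : y * (i * y * i⁻¹) = 1
  · exact L2.no_invert_three D.q_facts.1 hy3 (eq_inv_of_mul_eq_one_right hz)
  · refine not_commute_three (orderOf_eq_prime (by rwa [pow_two]) h1) (orderOf_eq_prime ?_ hz) hfix'
    rw [hcy.symm.mul_pow, conj_pow, ← hy3, pow_orderOf_eq_one, mul_one, mul_inv_cancel, mul_one]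

/-- An element of order three commutes with no element of prime order `r ≥ 5` dividing `q - 1`. -/
theorem not_commute_minus {r : ℕ} (hr : r.Prime) (h5 : 5 ≤ r) (hd : r ∣ Fintype.card F - 1)
    {x u : G} (hx : orderOf x = 3) (hu : orderOf u = r) : ¬ Commute x u := by
  intro hxu
  obtain ⟨v, hv, huv⟩ := D.exists_commuting hr h5 (Or.inl hd) hu
  obtain ⟨h8, -, hq5, -⟩ := D.q_facts
  set E := D.cent hv
  set C := Subgroup.centralizer ({u} : Set G)
  have hodd : Odd r := hr.odd_of_ne_two (by omega)
  have hku : orderOf (kap E huv) = r := by rw [orderOf_kap E huv (hu ▸ hodd), hu]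
  have hvC : v ∈ C := Subgroup.mem_centralizer_singleton_iff.2 huv.symm.eq
  obtain ⟨P, -, hP⟩ := CfsgLib.ReeType.exists_sylow_two (L := C) (t := ⟨v, hvC⟩)
    (by rwa [Subgroup.orderOf_mk]) (fun a ha k hk => by
      have hav : Commute (a : G) v := congrArg Subtype.val ha.eq
      have h1 : kap E hav = 1 := by
        by_contra h1
        have hsq : kap E hav * kap E hav = 1 := L2.sq_one_of_two_pow h8 (k := k) (by
          rw [← kap_pow]
          exact (kap_congr _ _ (Commute.one_left v) (congrArg Subtype.val hk)).trans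
            (map_one E.kappa))
        exact L2.not_commute_invol h8 hq5 hr (by omega) hd hku
          (orderOf_eq_prime (by rwa [pow_two]) h1)
          (kap_commute E hav huv (Subgroup.mem_centralizer_singleton_iff.1 a.2))
      rcases eq_of_kap_one E hav h1 with e | e
      · exact Or.inl (Subtype.ext e)
      · exact Or.inr (Subtype.ext e))
  obtain ⟨K, hK, -⟩ := exists_oddPart P hP
  obtain ⟨w₀, hw₀, hw1, hwu⟩ := L2.exists_inverting h8 hr (by omega) hd hku
  set w := E.up w₀ with hw
  have hww : w * w = 1 := by rw [hw, ← map_mul, hw₀, map_one]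
  have hwv : Commute w v := E.up_commute w₀
  have hwu' : w * u * w⁻¹ = u⁻¹ := by
    conv_lhs => rw [eq_up_of_odd E huv (hu ▸ hodd)]
    conv_rhs => rw [eq_up_of_odd E huv (hu ▸ hodd)]
    rw [hw, ← map_inv, ← map_mul, ← map_mul, hwu, map_inv]
  have hvv : v * v = 1 := by rw [← pow_two, ← hv, pow_orderOf_eq_one]
  have hwv1 : w ≠ v := fun e => hw1 (by
    rw [← E.kappa_up w₀, ← E.kappa_self]; exact congrArg E.kappa (Subtype.ext (hw.symm.trans e)))
  have hnotThree := no_three_of_four D.three_comm hK.odd hvv hww hwv.symm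
    (fun k hk => hK.conj_mem hk (C.mul_mem (C.mul_mem hvC (hK.le hk)) (C.inv_mem hvC)))
    (fun k hk => hK.conj_mem hk (Subgroup.mem_centralizer_singleton_iff.2 (by
      have h1 : Commute k u := Subgroup.mem_centralizer_singleton_iff.1 (hK.le hk)
      have h2 : Commute (w * k * w⁻¹) (w * u * w⁻¹) := by
        simpa [MulAut.conj_apply] using h1.map (MulAut.conj w).toMonoidHom
      rw [hwu'] at h2
      exact (Commute.inv_right_iff.1 h2).eq)))
    (fun y hy j hj hyv => by
      by_contra hy1
      obtain ⟨n, hn⟩ := exists_pow_three hj hy1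
      have hyu : Commute (y ^ n) u :=
        Commute.pow_left (Subgroup.mem_centralizer_singleton_iff.1 (hK.le hy)) n
      have := (centralizer_three (D.orderOf_kap_three hv (hyv.pow_left n) hn)).2.2 _
        (kap_commute E huv (hyv.pow_left n) hyu.symm)
      have hd3 := orderOf_dvd_of_pow_eq_one this
      rw [hku] at hd3
      have := (Nat.prime_dvd_prime_iff_eq hr Nat.prime_three).1 hd3
      omega)
    (fun y hy j hj hyw hinv => by
      refine D.eq_one_of_inverted (orderOf_eq_prime (by rwa [pow_two]) ?_) hwv.symm hyw hj hinv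
      exact fun e => hw1 (E.up_injective ((hw.symm.trans e).trans (map_one _).symm)))
    (fun y hy j hj hyw hinv => by
      refine D.eq_one_of_inverted (orderOf_eq_prime ?_ ?_)
        ((Commute.refl v).mul_right hwv.symm) hyw hj hinv
      · rw [hwv.symm.mul_pow, pow_two, pow_two, hvv, hww, one_mul]
      · intro e
        exact hwv1 (mul_left_cancel (e.trans hvv.symm)))
  exact hnotThree x (hK.mem x (Subgroup.mem_centralizer_singleton_iff.2 hxu.eq)
    (by rw [hx]; exact ⟨1, rfl⟩)) hx

end Setup

end CfsgLib.ReeAbelian
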