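import Cfsg.Agent.Lib.Walter.ReeAbelian.Local
import Cfsg.Agent.Lib.ReeType.Klein

/-!
# Elements of prime order dividing `q + 1`: tori and the involutions inverting them
-/

set_option autoImplicit false
set_option linter.style.haveILetI false
set_option linter.unusedSectionVars false

noncomputable section

namespace CfsgLib.ReeAbelian

open Cfsg CfsgLib.ReeType

universe u

variable {G : Type u} [Group G] [Finite G] {F : Type} [Field F] [Fintype F] [DecidableEq F]
  [CharP F 3]

/-- The four-group attached to a torus of order dividing `q + 1`. -/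
structure IsFour (v u i : G) : Prop where
  order : orderOf i = 2
  ne : i ≠ v
  commute_v : Commute i v
  commute_u : Commute i u
  comm : ∀ a b : G, Commute a v → Commute a u → Commute b v → Commute b u → Commute a b
  two_part : ∀ (a : G) (k : ℕ), Commute a v → Commute a u → a ^ (2 ^ k) = 1 →
    a = 1 ∨ a = v ∨ a = i ∨ a = v * i
  no_three : ∀ (a : G) (j : ℕ), Commute a v → Commute a u → a ^ (3 ^ j) = 1 → a = 1
  fix : ∀ z : G, Commute z v → z * u * z⁻¹ = u⁻¹ → Commute z i ∧ z * z = 1 ∧
    ∀ a, Commute a v → Commute a u → Commute a z → a = 1 ∨ a = v ∨ a = i ∨ a = v * i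
  exists_z : ∃ z : G, Commute z v ∧ z * u * z⁻¹ = u⁻¹

/-- The elements outside the fixed points of an involutory conjugation come in pairs. -/
theorem even_card_not_commute (c : G) (hc : c * c = 1) (p : G → Prop) [DecidablePred p]
    (hp : ∀ x, p x → p (c * x * c⁻¹)) [Fintype G] [DecidablePred fun x => ¬ Commute c x] :
    2 ∣ ((Finset.univ.filter p).filter fun x => ¬ Commute c x).card := by
  classical
  have hci : c⁻¹ = c := inv_eq_of_mul_eq_one_right hc
  rw [← ZMod.natCast_eq_zero_iff]
  rw [Finset.card_eq_sum_ones, Nat.cast_sum]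
  refine Finset.sum_involution (fun x _ => c * x * c⁻¹) ?_ ?_ ?_ ?_
  · intro x _; decide
  · intro x hx _ e
    exact (Finset.mem_filter.1 hx).2 (mul_inv_eq_iff_eq_mul.1 e)
  · intro x hx
    simp only [Finset.mem_filter, Finset.mem_univ, true_and] at hx ⊢
    refine ⟨hp x hx.1, fun h => hx.2 ?_⟩
    have e : c * (c * x * c⁻¹) * c⁻¹ = c * x * c⁻¹ := by rw [h.eq]; group
    exact (mul_inv_eq_iff_eq_mul.1 (by
      rw [show c * (c * x * c⁻¹) * c⁻¹ = (c * c) * x * (c * c)⁻¹ by group, hc, one_mul, inv_one,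
        mul_one] at e
      exact e.symm))
  · intro x _
    show c * (c * x * c⁻¹) * c⁻¹ = x
    rw [show c * (c * x * c⁻¹) * c⁻¹ = (c * c) * x * (c * c)⁻¹ by group, hc, one_mul, inv_one,
      mul_one]

namespace Setup

variable (D : Setup G F)
include D

/-- The four-group of a torus. -/
theorem exists_four {r : ℕ} (hr : r.Prime) (h5 : 5 ≤ r) (hd : r ∣ Fintype.card F + 1) {v u : G}
    (hv : orderOf v = 2) (huv : Commute u v) (hu : orderOf u = r) : ∃ i : G, IsFour v u i := by
  obtain ⟨h8, h27, hq5, -⟩ := D.q_facts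
  have hodd : Odd r := hr.odd_of_ne_two (by omega)
  set E := D.cent hv with hE
  have hku : orderOf (kap E huv) = r := by rw [orderOf_kap E huv (hu ▸ hodd), hu]
  obtain ⟨f, i₀, hf, hi₀, hi₀f, -, hcent, hinv, hout, hcard⟩ :=
    L2.exists_torus_of_order h8 hq5 hr (by omega) hd hku
  have hT : ∀ a (hav : Commute a v), Commute a u → kap E hav ∈ Subgroup.zpowers f :=
    fun a hav hau => (hcent _).1 (kap_commute E hav huv hau)
  have huf : kap E huv ∈ Subgroup.zpowers f := (hcent _).1 (Commute.refl _)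
  have hi₀u : Commute i₀ (kap E huv) := (hcent i₀).2 hi₀f
  set i := E.up i₀ with hi
  have hiv : Commute i v := E.up_commute i₀
  have hkv : ∀ (k : Matrix.ProjectiveSpecialLinearGroup (Fin 2) F) (h : Commute (E.up k) v),
      kap E h = k := fun k h => E.kappa_up k
  have hu_up := eq_up_of_odd E huv (hu ▸ hodd)
  have hio : orderOf i = 2 := by rw [hi, orderOf_injective _ E.up_injective, hi₀]
  have hii : i * i = 1 := by rw [← pow_two, ← hio, pow_orderOf_eq_one]
  have hvv : v * v = 1 := by rw [← pow_two, ← hv, pow_orderOf_eq_one]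
  have hne : i ≠ v := fun e => by
    have h1 : i₀ = 1 := by
      rw [← hkv i₀ hiv, kap_congr E hiv (Commute.refl v) e, kap_self]
    rw [h1, orderOf_one] at hi₀
    omega
  -- elements with kappa in `{1, i₀}`
  have hfour : ∀ a (hav : Commute a v), (kap E hav = 1 ∨ kap E hav = i₀) →
      a = 1 ∨ a = v ∨ a = i ∨ a = v * i := by
    rintro a hav (e | e)
    · rcases eq_of_kap_one E hav e with h | h
      · exact Or.inl h
      · exact Or.inr (Or.inl h)
    · have hai : Commute (a * i⁻¹) v := hav.mul_left hiv.inv_left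
      have h1 : kap E hai = 1 := by
        rw [kap_mul E hav hiv.inv_left, kap_inv E hiv, hkv i₀ hiv, e, mul_inv_cancel]
      rcases eq_of_kap_one E hai h1 with h | h
      · exact Or.inr (Or.inr (Or.inl (mul_inv_eq_one.1 h)))
      · exact Or.inr (Or.inr (Or.inr (mul_inv_eq_iff_eq_mul.1 h)))
  have hsq : ∀ k ∈ Subgroup.zpowers f, k * k = 1 → k = 1 ∨ k = i₀ := by
    intro k hk hkk
    by_cases h1 : k = 1
    · exact Or.inl h1
    · right
      have := CfsgLib.PSL2.eq_of_orderOf_two (G := Subgroup.zpowers f) (a := ⟨k, hk⟩)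
        (b := ⟨i₀, hi₀f⟩) (by rw [Subgroup.orderOf_mk]; exact orderOf_eq_prime (by rwa [pow_two]) h1)
        (by rw [Subgroup.orderOf_mk]; exact hi₀)
      exact congrArg Subtype.val this
  refine ⟨i, hio, hne, hiv, ?_, ?_, ?_, ?_, ?_, ?_⟩
  · rw [hu_up, hi]
    exact hi₀u.map E.up
  · intro a b hav hau hbv hbu
    refine E.commute_of_kappa (x := ⟨a, Subgroup.mem_centralizer_singleton_iff.2 hav.eq⟩)
      (x' := ⟨b, Subgroup.mem_centralizer_singleton_iff.2 hbv.eq⟩) ?_
    obtain ⟨m, hm⟩ := Subgroup.mem_zpowers_iff.1 (hT a hav hau)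
    obtain ⟨n, hn⟩ := Subgroup.mem_zpowers_iff.1 (hT b hbv hbu)
    show Commute (kap E hav) (kap E hbv)
    rw [← hm, ← hn]
    exact Commute.zpow_zpow (Commute.refl f) m n
  · intro a k hav hau hk
    refine hfour a hav (hsq _ (hT a hav hau) (L2.sq_one_of_two_pow h8 (k := k) ?_))
    rw [← kap_pow]
    exact (kap_congr _ _ (Commute.one_left v) hk).trans (map_one E.kappa)
  · intro a j hav hau hj
    have h1 : kap E hav ^ (3 ^ j) = 1 := by
      rw [← kap_pow]
      exact (kap_congr _ _ (Commute.one_left v) hj).trans (map_one E.kappa)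
    have h2 : orderOf (kap E hav) ∣ (Fintype.card F + 1) / 2 := by
      rw [← hf, ← Nat.card_zpowers f]
      exact Subgroup.orderOf_dvd_natCard _ (hT a hav hau)
    have h3 : Nat.Coprime (3 ^ j) ((Fintype.card F + 1) / 2) := by
      refine Nat.Coprime.pow_left j ((Nat.prime_three.coprime_iff_not_dvd).2 fun h => ?_)
      obtain ⟨c, hc⟩ := D.q_facts.2.2.2
      obtain ⟨e, he⟩ := h
      omega
    have h4 : orderOf (kap E hav) = 1 :=
      Nat.eq_one_of_dvd_coprimes h3 (orderOf_dvd_of_pow_eq_one h1) h2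
    rcases eq_of_kap_one E hav (orderOf_eq_one_iff.1 h4) with e | e
    · exact e
    · exfalso
      have h5' := odd_three hj
      rw [e, hv] at h5'
      exact absurd h5' (by decide)
  · intro z hzv hzu
    set kz := kap E hzv with hkz
    have h1 : kz * kap E huv * kz⁻¹ = (kap E huv)⁻¹ := by
      rw [hkz, ← kap_inv E hzv, ← kap_mul E hzv huv, ← kap_mul, ← kap_inv E huv]
      exact kap_congr _ _ _ hzu
    have hzT : ∀ c ∈ Subgroup.zpowers f, kz * c * kz⁻¹ ∈ Subgroup.zpowers f := by
      intro c hc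
      refine (hcent _).1 ?_
      have h2 : Commute (kz * c * kz⁻¹) (kz * kap E huv * kz⁻¹) := by
        simpa [MulAut.conj_apply] using ((hcent c).2 hc).map (MulAut.conj kz).toMonoidHom
      rw [h1] at h2
      exact Commute.inv_right_iff.1 h2
    have hzi : Commute kz i₀ := by
      have h2 : kz * i₀ * kz⁻¹ * (kz * i₀ * kz⁻¹) = 1 := by
        have hi2 : i₀ * i₀ = 1 := by
          have h3 : i₀ ^ orderOf i₀ = i₀ * i₀ := (congrArg (fun n : ℕ => i₀ ^ n) hi₀).trans (pow_two i₀)
          rw [← h3, pow_orderOf_eq_one]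
        rw [← MulAut.conj_apply, ← map_mul, hi2, map_one]
      rcases hsq _ (hzT i₀ hi₀f) h2 with e | e
      · exfalso
        have : i₀ = 1 := by
          calc i₀ = kz⁻¹ * (kz * i₀ * kz⁻¹) * kz := by group
            _ = 1 := by rw [e]; group
        rw [this, orderOf_one] at hi₀
        omega
      · exact mul_inv_eq_iff_eq_mul.1 e
    have hkzT : kz ∉ Subgroup.zpowers f := by
      intro hmem
      rw [((hcent kz).2 hmem).eq, mul_inv_cancel_right] at h1
      have := orderOf_dvd_of_pow_eq_one (show kap E huv ^ 2 = 1 by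
        rw [pow_two]; nth_rw 2 [h1]; exact mul_inv_cancel _)
      rw [hku] at this
      have := Nat.le_of_dvd two_pos this
      omega
    refine ⟨?_, ?_, fun a hav hau haz => hfour a hav ?_⟩
    · refine E.commute_of_kappa (x := ⟨z, Subgroup.mem_centralizer_singleton_iff.2 hzv.eq⟩)
        (x' := ⟨i, Subgroup.mem_centralizer_singleton_iff.2 hiv.eq⟩) ?_
      show Commute kz (kap E hiv)
      rw [hkv i₀ hiv]
      exact hzi
    · have hzz : kap E (hzv.mul_left hzv) = 1 := by
        rw [kap_mul E hzv hzv, ← hkz, hout kz hzi hkzT]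
      rcases eq_of_kap_one E (hzv.mul_left hzv) hzz with e | e
      · exact e
      · exfalso
        have h2 := congrArg (fun x : Subgroup.centralizer ({v} : Set G) => (E.e x).1)
          (show (⟨z, Subgroup.mem_centralizer_singleton_iff.2 hzv.eq⟩ :
              Subgroup.centralizer ({v} : Set G)) * ⟨z, Subgroup.mem_centralizer_singleton_iff.2 hzv.eq⟩
            = ⟨v, Subgroup.mem_centralizer_singleton_iff.2 rfl⟩ from Subtype.ext e)
        simp only [map_mul, Prod.fst_mul, E.he] at h2
        generalize (E.e _).1 = w at h2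
        revert h2
        revert w
        decide
    · have h2 := hinv kz hzi hkzT _ (hT a hav hau)
      rw [(kap_commute E hav hzv haz).symm.eq, mul_inv_cancel_right] at h2
      exact hsq _ (hT a hav hau) (by nth_rw 2 [h2]; exact mul_inv_cancel _)
  · have hlt : Nat.card (Subgroup.zpowers f) <
        Nat.card (Subgroup.centralizer ({i₀} : Set (Matrix.ProjectiveSpecialLinearGroup (Fin 2) F))) := by
      rw [Nat.card_zpowers, hf, hcard]
      omega
    obtain ⟨x, hx, hxf⟩ := SetLike.not_le_iff_exists.1 fun hle =>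
      absurd (Subgroup.card_le_of_le hle) (Nat.not_le.2 hlt)
    refine ⟨E.up x, E.up_commute x, ?_⟩
    have h1 := hinv x (Subgroup.mem_centralizer_singleton_iff.1 hx) hxf _ huf
    conv_lhs => rw [hu_up]
    conv_rhs => rw [hu_up]
    rw [← map_inv, ← map_mul, ← map_mul, h1, map_inv]

/-- A Sylow 2-subgroup of a subgroup centralizing `u` and containing the four-group. -/
theorem sylow_mem_iff {v u i : G} (hv : orderOf v = 2) (h : IsFour v u i)
    {M : Subgroup G} (hM : ∀ a ∈ M, Commute a u) (hvM : v ∈ M) (hiM : i ∈ M)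
    (P : Sylow 2 ↥M) (hvP : (⟨v, hvM⟩ : ↥M) ∈ P) (a : ↥M) :
    a ∈ P ↔ (a : G) = 1 ∨ (a : G) = v ∨ (a : G) = i ∨ (a : G) = v * i := by
  have : Fact (Nat.Prime 2) := ⟨Nat.prime_two⟩
  constructor
  · intro ha
    obtain ⟨k, hk⟩ := P.isPGroup' ⟨a, ha⟩
    refine h.two_part a k ?_ (hM a a.2) (congrArg Subtype.val (congrArg Subtype.val hk))
    exact D.two_group_comm (P.isPGroup'.map M.subtype) ⟨a, ha, rfl⟩ ⟨_, hvP, rfl⟩
  · -- `⟨v, i⟩` is a 2-group containing `v`
    have hP : ∀ b : ↥M, b ∈ P → Commute (b : G) v := fun b hb =>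
      D.two_group_comm (P.isPGroup'.map M.subtype) ⟨b, hb, rfl⟩ ⟨_, hvP, rfl⟩
    let i' : ↥M := ⟨i, hiM⟩
    have hio : orderOf i' = 2 := by rw [Subgroup.orderOf_mk]; exact h.order
    have hnorm : Subgroup.zpowers i' ≤ Subgroup.normalizer ((P : Subgroup ↥M) : Set ↥M) := by
      rw [Subgroup.zpowers_le]
      refine Subgroup.centralizer_le_normalizer _ (Subgroup.mem_centralizer_iff.2 fun b hb => ?_)
      exact Subtype.ext (h.comm _ _ (hP b hb) (hM b b.2) h.commute_v h.commute_u).eq
    have hsup : IsPGroup 2 ((Subgroup.zpowers i') ⊔ (P : Subgroup ↥M) : Subgroup ↥M) :=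
      (IsPGroup.of_card (n := 1) (by rw [Nat.card_zpowers, hio, pow_one]) :
        IsPGroup 2 (Subgroup.zpowers i')).to_sup_of_normal_right' P.isPGroup' hnorm
    have hiP : i' ∈ P := by
      have := P.is_maximal' hsup le_sup_right
      show i' ∈ (P : Subgroup ↥M)
      rw [← this]
      exact Subgroup.mem_sup_left (Subgroup.mem_zpowers i')
    rintro (e | e | e | e)
    · rw [show a = 1 from Subtype.ext e]; exact one_mem _
    · rw [show a = ⟨v, hvM⟩ from Subtype.ext e]; exact hvP
    · rw [show a = i' from Subtype.ext e]; exact hiP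
    · rw [show a = ⟨v, hvM⟩ * i' from Subtype.ext e]; exact mul_mem hvP hiP

/-- Either no element of order three, or an element permuting the four-group cyclically. -/
theorem fusion {r : ℕ} (hr : r.Prime) (h5 : 5 ≤ r) (hd : r ∣ Fintype.card F + 1) {v u i : G}
    (hv : orderOf v = 2) (hu : orderOf u = r) (h : IsFour v u i) (huv : Commute u v)
    {M : Subgroup G} (hM : ∀ a ∈ M, Commute a u) (hvM : v ∈ M) (hiM : i ∈ M) :
    (∀ x ∈ M, orderOf x ≠ 3) ∨ ∃ g ∈ M,
      ¬ Commute g v ∧ ¬ Commute g i ∧ ¬ Commute g (v * i) ∧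
      ((g * v * g⁻¹ = i ∧ g * i * g⁻¹ = v * i) ∨ (g * v * g⁻¹ = v * i ∧ g * i * g⁻¹ = v)) := by
  classical
  have : Fact (Nat.Prime 2) := ⟨Nat.prime_two⟩
  have hvv : v * v = 1 := by rw [← pow_two, ← hv, pow_orderOf_eq_one]
  have hii : i * i = 1 := by rw [← pow_two, ← h.order, pow_orderOf_eq_one]
  have hvi : Commute v i := h.commute_v.symm
  have hv1 : v ≠ 1 := fun e => by rw [e, orderOf_one] at hv; omega
  have hi1 : i ≠ 1 := fun e => by have := h.order; rw [e, orderOf_one] at this; omega
  have hvi1 : v * i ≠ 1 := fun e => h.ne (by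
    rw [← inv_eq_of_mul_eq_one_right e]; exact inv_eq_of_mul_eq_one_right hvv)
  have hoi : orderOf (v * i) = 2 := orderOf_eq_prime
    (by rw [hvi.mul_pow, pow_two, pow_two, hvv, hii, one_mul]) hvi1
  have hui : Commute u i := h.commute_u.symm
  -- fixing one involution of the four-group forces commuting with the others
  have hfixone : ∀ g ∈ M, ∀ w : G, (w = i ∨ w = v * i) → Commute g w → Commute g v := by
    intro g hg w hw hgw
    have hwo : orderOf w = 2 := by rcases hw with rfl | rfl; exacts [h.order, hoi]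
    have huw : Commute u w := by rcases hw with rfl | rfl; exacts [hui, huv.mul_right hui]
    have hvw : Commute v w := by rcases hw with rfl | rfl; exacts [hvi, (Commute.refl v).mul_right hvi]
    obtain ⟨j, hj⟩ := D.exists_four hr h5 hd hwo huw hu
    exact hj.comm g v hgw (hM g hg) hvw huv.symm
  obtain ⟨P, hP⟩ := (IsPGroup.of_card (n := 1) (by
    rw [Nat.card_zpowers, Subgroup.orderOf_mk, hv, pow_one]) :
      IsPGroup 2 (Subgroup.zpowers (⟨v, hvM⟩ : ↥M))).exists_le_sylow
  have hvP : (⟨v, hvM⟩ : ↥M) ∈ P := hP (Subgroup.mem_zpowers _)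
  have hmem := D.sylow_mem_iff hv h hM hvM hiM P hvP
  by_cases hex : ∃ g : ↥M, g ∈ Subgroup.normalizer ((P : Subgroup ↥M) : Set ↥M) ∧ ¬ Commute (g : G) v
  · right
    obtain ⟨g, hgN, hgv⟩ := hex
    have hconj : ∀ a : ↥M, a ∈ P → g * a * g⁻¹ ∈ P := fun a ha =>
      (Subgroup.mem_normalizer_iff.1 hgN a).1 ha
    have hgi : ¬ Commute (g : G) i := fun e => hgv (hfixone g g.2 i (Or.inl rfl) e)
    have hgvi : ¬ Commute (g : G) (v * i) := fun e => hgv (hfixone g g.2 _ (Or.inr rfl) e)
    refine ⟨g, g.2, hgv, hgi, hgvi, ?_⟩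
    have e1 : (g : G) * v * (g : G)⁻¹ = i ∨ (g : G) * v * (g : G)⁻¹ = v * i := by
      rcases (hmem _).1 (hconj _ hvP) with e | e | e | e <;>
        simp only [Subgroup.coe_mul, Subgroup.coe_inv] at e
      · exact absurd (conj_eq_one_iff.1 e) hv1
      · exact absurd (mul_inv_eq_iff_eq_mul.1 e) hgv
      · exact Or.inl e
      · exact Or.inr e
    have e2 : (g : G) * i * (g : G)⁻¹ = v ∨ (g : G) * i * (g : G)⁻¹ = v * i := by
      rcases (hmem _).1 (hconj ⟨i, hiM⟩ ((hmem _).2 (Or.inr (Or.inr (Or.inl rfl))))) with e | e | e | e <;>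
        simp only [Subgroup.coe_mul, Subgroup.coe_inv] at e
      · exact absurd (conj_eq_one_iff.1 e) hi1
      · exact Or.inl e
      · exact absurd (mul_inv_eq_iff_eq_mul.1 e) hgi
      · exact Or.inr e
    have hne : (g : G) * v * (g : G)⁻¹ ≠ (g : G) * i * (g : G)⁻¹ := fun e =>
      h.ne (mul_left_cancel (mul_right_cancel e)).symm
    rcases e1 with e1 | e1
    · refine Or.inl ⟨e1, e2.resolve_left fun e => hgvi ?_⟩
      have e3 : (g : G) * (v * i) * (g : G)⁻¹ = v * i := by
        rw [show (g : G) * (v * i) * (g : G)⁻¹ =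
          ((g : G) * v * (g : G)⁻¹) * ((g : G) * i * (g : G)⁻¹) by group, e1, e, hvi.eq]
      exact mul_inv_eq_iff_eq_mul.1 e3
    · exact Or.inr ⟨e1, e2.resolve_right fun e => hne (e1.trans e.symm)⟩
  · left
    push Not at hex
    obtain ⟨K, hK, -⟩ := exists_oddPart P (fun g hg => by
      rw [Subgroup.mem_centralizer_iff]
      intro a ha
      have hgv := hex g hg
      have hgi : Commute (g : G) i :=
        h.comm _ _ hgv (hM g g.2) h.commute_v h.commute_u
      refine Subtype.ext ?_
      show (a : G) * g = g * a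
      rcases (hmem a).1 ha with e | e | e | e <;> rw [e]
      · simp
      · exact hgv.symm.eq
      · exact hgi.symm.eq
      · exact (hgv.mul_right hgi).symm.eq)
    obtain ⟨j₁, hj₁⟩ := D.exists_four hr h5 hd h.order hui hu
    obtain ⟨j₂, hj₂⟩ := D.exists_four hr h5 hd hoi (huv.mul_right hui) hu
    have hnot := no_three_of_four D.three_comm hK.odd hvv hii hvi
      (fun k hk => hK.conj_mem hk (M.mul_mem (M.mul_mem hvM (hK.le hk)) (M.inv_mem hvM)))
      (fun k hk => hK.conj_mem hk (M.mul_mem (M.mul_mem hiM (hK.le hk)) (M.inv_mem hiM)))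
      (fun x hx j hj hc => h.no_three x j hc (hM x (hK.le hx)) hj)
      (fun x hx j hj hc _ => hj₁.no_three x j hc (hM x (hK.le hx)) hj)
      (fun x hx j hj hc _ => hj₂.no_three x j hc (hM x (hK.le hx)) hj)
    intro x hx hx3
    exact hnot x (hK.mem x hx (by rw [hx3]; exact ⟨1, rfl⟩)) hx3

/-- An involution inverting `u` centralizes no 3-subgroup of order nine in `C(u)`. -/
theorem not_nine {r : ℕ} (hr : r.Prime) (h5 : 5 ≤ r) (hd : r ∣ Fintype.card F + 1) {z u : G}
    (hu : orderOf u = r) (hz : orderOf z = 2) (hzu : z * u * z⁻¹ = u⁻¹) :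
    ¬ 9 ∣ Nat.card ↥(Subgroup.centralizer ({u} : Set G) ⊓ Subgroup.centralizer ({z} : Set G)) := by
  classical
  have : Fact (Nat.Prime 2) := ⟨Nat.prime_two⟩
  have hzz : z * z = 1 := by rw [← pow_two, ← hz, pow_orderOf_eq_one]
  letI := Fintype.ofFinite G
  -- an involution of `C(u)` commuting with `z`
  obtain ⟨v₀, hv₀, huv₀⟩ := D.exists_commuting hr h5 (Or.inr hd) hu
  obtain ⟨i₀, h₀⟩ := D.exists_four hr h5 hd hv₀ huv₀ hu
  have hv₀v₀ : v₀ * v₀ = 1 := by rw [← pow_two, ← hv₀, pow_orderOf_eq_one]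
  let p : G → Prop := fun x => x * x = 1 ∧ x ≠ 1 ∧ Commute x u
  have hp : ∀ c : G, (∀ x, Commute x u → Commute (c * x * c⁻¹) u) → ∀ x, p x → p (c * x * c⁻¹) := by
    intro c hc x ⟨hx, hx1, hxu⟩
    refine ⟨?_, fun e => hx1 (conj_eq_one_iff.1 e), hc x hxu⟩
    rw [show c * x * c⁻¹ * (c * x * c⁻¹) = c * (x * x) * c⁻¹ by group, hx, mul_one, mul_inv_cancel]
  have hpv : ∀ x, Commute x u → Commute (v₀ * x * v₀⁻¹) u := fun x hx =>
    (huv₀.symm.mul_left hx).mul_left huv₀.symm.inv_left
  have hpz : ∀ x, Commute x u → Commute (z * x * z⁻¹) u := fun x hx => by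
    have h2 : Commute (z * x * z⁻¹) (z * u * z⁻¹) := by
      simpa [MulAut.conj_apply] using hx.map (MulAut.conj z).toMonoidHom
    rw [hzu] at h2
    exact Commute.inv_right_iff.1 h2
  have hcomm : ((Finset.univ.filter p).filter fun x => Commute v₀ x) = {v₀, i₀, v₀ * i₀} := by
    ext x
    simp only [Finset.mem_filter, Finset.mem_univ, true_and, Finset.mem_insert,
      Finset.mem_singleton, p]
    constructor
    · rintro ⟨⟨hx, hx1, hxu⟩, hxv⟩
      rcases h₀.two_part x 1 hxv.symm hxu (by rw [pow_one, pow_two, hx]) with e | e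
      · exact absurd e hx1
      · exact e
    · have hi : i₀ * i₀ = 1 := by rw [← pow_two, ← h₀.order, pow_orderOf_eq_one]
      rintro (rfl | rfl | rfl)
      · exact ⟨⟨hv₀v₀, fun e => by rw [e, orderOf_one] at hv₀; omega, huv₀.symm⟩, Commute.refl _⟩
      · exact ⟨⟨hi, fun e => by have := h₀.order; rw [e, orderOf_one] at this; omega,
          h₀.commute_u⟩, h₀.commute_v.symm⟩
      · refine ⟨⟨?_, ?_, huv₀.symm.mul_left h₀.commute_u⟩,
          (Commute.refl v₀).mul_right h₀.commute_v.symm⟩
        · rw [← pow_two, h₀.commute_v.symm.mul_pow, pow_two, pow_two, hv₀v₀, hi, one_mul]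
        · exact fun e => h₀.ne ((inv_eq_of_mul_eq_one_right e).symm.trans
            (inv_eq_of_mul_eq_one_right hv₀v₀))
  have hodd : ¬ 2 ∣ (Finset.univ.filter p).card := by
    have h1 := Finset.card_filter_add_card_filter_not (s := Finset.univ.filter p)
      (fun x => Commute v₀ x)
    have h2 := even_card_not_commute v₀ hv₀v₀ p (hp v₀ hpv)
    have hi1 : v₀ ≠ i₀ := fun e => h₀.ne e.symm
    have hi2 : v₀ ≠ v₀ * i₀ := fun e => by
      have := h₀.order
      rw [mul_eq_left.1 e.symm, orderOf_one] at this; omega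
    have hi3 : i₀ ≠ v₀ * i₀ := fun e => by
      rw [mul_eq_right.1 e.symm, orderOf_one] at hv₀; omega
    rw [hcomm, Finset.card_insert_of_notMem (by simp [hi1, hi2]),
      Finset.card_insert_of_notMem (by simp [hi3]), Finset.card_singleton] at h1
    omega
  obtain ⟨v, hpv', hzv⟩ : ∃ v, p v ∧ Commute z v := by
    by_contra hnone
    push Not at hnone
    have h2 := even_card_not_commute z hzz p (hp z hpz)
    rw [Finset.filter_true_of_mem fun x hx => hnone x (Finset.mem_filter.1 hx).2] at h2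
    exact hodd h2
  obtain ⟨hvv, hv1, hvu⟩ := hpv'
  have hv : orderOf v = 2 := orderOf_eq_prime (by rwa [pow_two]) hv1
  obtain ⟨i, h⟩ := D.exists_four hr h5 hd hv hvu.symm hu
  obtain ⟨hzi, -, hfixz⟩ := h.fix z hzv hzu
  set M := Subgroup.centralizer ({u} : Set G) ⊓ Subgroup.centralizer ({z} : Set G)
  have hM : ∀ a ∈ M, Commute a u := fun a ha => Subgroup.mem_centralizer_singleton_iff.1 ha.1
  have hMz : ∀ a ∈ M, Commute a z := fun a ha => Subgroup.mem_centralizer_singleton_iff.1 ha.2
  have hvM : v ∈ M := ⟨Subgroup.mem_centralizer_singleton_iff.2 hvu.eq,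
    Subgroup.mem_centralizer_singleton_iff.2 hzv.symm.eq⟩
  have hiM : i ∈ M := ⟨Subgroup.mem_centralizer_singleton_iff.2 h.commute_u.eq,
    Subgroup.mem_centralizer_singleton_iff.2 hzi.symm.eq⟩
  intro h9
  rcases D.fusion hr h5 hd hv hu h hvu.symm hM hvM hiM with hno | ⟨g, hgM, -, -, -, hcyc⟩
  · have : Fact (Nat.Prime 3) := ⟨Nat.prime_three⟩
    obtain ⟨x, hx⟩ := exists_prime_orderOf_dvd_card' (G := ↥M) 3 (dvd_trans (by norm_num) h9)
    exact hno x x.2 (by rw [Subgroup.orderOf_coe]; exact hx)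
  · obtain ⟨P, hP⟩ := (IsPGroup.of_card (n := 1) (by
      rw [Nat.card_zpowers, Subgroup.orderOf_mk, hv, pow_one]) :
        IsPGroup 2 (Subgroup.zpowers (⟨v, hvM⟩ : ↥M))).exists_le_sylow
    have hvP : (⟨v, hvM⟩ : ↥M) ∈ P := hP (Subgroup.mem_zpowers _)
    have hmem := D.sylow_mem_iff hv h hM hvM hiM P hvP
    let v' : ↥M := ⟨v, hvM⟩
    let i' : ↥M := ⟨i, hiM⟩
    let g' : ↥M := ⟨g, hgM⟩
    have hcent4 : Subgroup.centralizer ({v'} : Set ↥M) = (P : Subgroup ↥M) := by
      ext a
      rw [Subgroup.mem_centralizer_singleton_iff]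
      constructor
      · intro ha
        exact (hmem a).2 (hfixz a (congrArg Subtype.val ha) (hM a a.2) (hMz a a.2))
      · intro ha
        exact Subtype.ext (D.two_group_comm (P.isPGroup'.map M.subtype)
          ⟨a, ha, rfl⟩ ⟨_, hvP, rfl⟩).eq
    have hi' : i' ≠ 1 := fun e => by
      have := h.order; rw [show i = 1 from congrArg Subtype.val e, orderOf_one] at this; omega
    have hvi : v' ≠ i' := fun e => h.ne (congrArg Subtype.val e).symm
    have hcard : Nat.card (P : Subgroup ↥M) = 4 := by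
      rw [Nat.card_eq_fintype_card, Fintype.card_subtype]
      have hset : (Finset.univ.filter fun a : ↥M => a ∈ (P : Subgroup ↥M)) =
          {1, v', i', v' * i'} := by
        ext a
        simp only [Finset.mem_filter, Finset.mem_univ, true_and, Finset.mem_insert,
          Finset.mem_singleton, Subtype.ext_iff, Subgroup.coe_one, Subgroup.coe_mul]
        exact hmem a
      rw [hset]
      have hv' : v' ≠ 1 := fun e => hv1 (congrArg Subtype.val e)
      have h1 : v' * i' ≠ 1 := fun e => hvi (by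
        have e' := eq_inv_of_mul_eq_one_right e
        rw [e']
        exact (Subtype.ext (inv_eq_of_mul_eq_one_right hvv) : v'⁻¹ = v').symm)
      have h2 : v' ≠ v' * i' := fun e => hi' (mul_eq_left.1 e.symm)
      have h3 : i' ≠ v' * i' := fun e => hv' (mul_eq_right.1 e.symm)
      rw [Finset.card_insert_of_notMem (by simp [hv'.symm, hi'.symm, h1.symm]),
        Finset.card_insert_of_notMem (by simp [hvi, h2]),
        Finset.card_insert_of_notMem (by simp [h3]), Finset.card_singleton]
    have hK4 : IsKleinFour ↥(P : Subgroup ↥M) := by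
      refine ⟨hcard, ?_⟩
      haveI : Nontrivial ↥(P : Subgroup ↥M) := Finite.one_lt_card_iff_nontrivial.1 (by omega)
      refine ((Nat.dvd_prime Nat.prime_two).1 (Monoid.exponent_dvd_of_forall_pow_eq_one fun a => ?_)).resolve_left
        (fun e => by
          obtain ⟨a, ha⟩ := exists_ne (1 : ↥(P : Subgroup ↥M))
          exact ha (orderOf_eq_one_iff.1 (Nat.dvd_one.1 (e ▸ Monoid.order_dvd_exponent a))))
      refine Subtype.ext (Subtype.ext ?_)
      show ((a : ↥M) : G) ^ 2 = 1
      rcases (hmem a).1 a.2 with e | e | e | e <;> rw [e]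
      · exact one_pow 2
      · rw [pow_two, hvv]
      · rw [← h.order, pow_orderOf_eq_one]
      · rw [h.commute_v.symm.mul_pow, pow_two, hvv, one_mul, ← h.order, pow_orderOf_eq_one]
    have hconjall : ∀ t : ↥M, orderOf t = 2 → IsConj v' t := by
      intro t ht
      obtain ⟨Q, hQ⟩ := (IsPGroup.of_card (n := 1) (by rw [Nat.card_zpowers, ht, pow_one]) :
        IsPGroup 2 (Subgroup.zpowers t)).exists_le_sylow
      obtain ⟨k, hk⟩ := MulAction.exists_smul_eq ↥M Q P
      have htP : k * t * k⁻¹ ∈ P := by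
        rw [← hk]
        exact ⟨t, hQ (Subgroup.mem_zpowers t), rfl⟩
      refine IsConj.trans ?_ (isConj_iff.2 ⟨k, rfl⟩ : IsConj t (k * t * k⁻¹)).symm
      rcases hcyc with ⟨ea, eb⟩ | ⟨ea, eb⟩
      · have ei : IsConj v' i' := isConj_iff.2 ⟨g', Subtype.ext ea⟩
        rcases (hmem _).1 htP with e | e | e | e
        · exfalso
          rw [conj_eq_one_iff.1 (Subtype.ext e : k * t * k⁻¹ = 1), orderOf_one] at ht
          omega
        · rw [show k * t * k⁻¹ = v' from Subtype.ext e]
        · rw [show k * t * k⁻¹ = i' from Subtype.ext e]; exact ei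
        · rw [show k * t * k⁻¹ = v' * i' from Subtype.ext e]
          exact ei.trans (isConj_iff.2 ⟨g', Subtype.ext eb⟩)
      · have ei : IsConj v' i' := (isConj_iff.2 ⟨g', Subtype.ext eb⟩ : IsConj i' v').symm
        rcases (hmem _).1 htP with e | e | e | e
        · exfalso
          rw [conj_eq_one_iff.1 (Subtype.ext e : k * t * k⁻¹ = 1), orderOf_one] at ht
          omega
        · rw [show k * t * k⁻¹ = v' from Subtype.ext e]
        · rw [show k * t * k⁻¹ = i' from Subtype.ext e]; exact ei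
        · rw [show k * t * k⁻¹ = v' * i' from Subtype.ext e]
          exact isConj_iff.2 ⟨g', Subtype.ext ea⟩
    obtain ⟨hc, hn⟩ := CfsgLib.ReeType.klein_self_centralizing P hK4 (fun t ht => by
      obtain ⟨k, rfl⟩ := isConj_iff.1 (hconjall t ht)
      have e : Subgroup.centralizer ({k * v' * k⁻¹} : Set ↥M) =
          (Subgroup.centralizer ({v'} : Set ↥M)).map (MulAut.conj k).toMonoidHom := by
        ext a
        rw [Subgroup.mem_map_equiv, MulAut.conj_symm_apply, Subgroup.mem_centralizer_singleton_iff,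
          Subgroup.mem_centralizer_singleton_iff]
        constructor <;> intro ha
        · calc k⁻¹ * a * k * v' = k⁻¹ * (a * (k * v' * k⁻¹)) * k := by group
            _ = k⁻¹ * ((k * v' * k⁻¹) * a) * k := by rw [ha]
            _ = v' * (k⁻¹ * a * k) := by group
        · calc a * (k * v' * k⁻¹) = k * (k⁻¹ * a * k * v') * k⁻¹ := by group
            _ = k * (v' * (k⁻¹ * a * k)) * k⁻¹ := by rw [ha]
            _ = k * v' * k⁻¹ * a := by group
      rw [e, Subgroup.card_map_of_injective (MulAut.conj k).injective, hcent4, hcard])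
      (fun s t hs ht => (hconjall s hs).symm.trans (hconjall t ht))
    rw [hc] at h9
    rcases hn with e | e <;> rw [e] at h9 <;> norm_num at h9

end Setup

end CfsgLib.ReeAbelian
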