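import Cfsg.Agent.Lib.Walter.ReeAbelian.Plus
import Cfsg.Agent.Lib.Walter.ReeAbelian.Chars

/-!
# A group of Ree order with abelian Sylow 3-subgroups is not simple
-/

set_option autoImplicit false
set_option linter.style.haveILetI false
set_option linter.unusedSectionVars false
set_option linter.deprecated false

noncomputable section

namespace CfsgLib.ReeAbelian

open Cfsg CfsgLib.ReeType

universe u

variable {G : Type u} [Group G] [Finite G] {F : Type} [Field F] [Fintype F] [DecidableEq F]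
  [CharP F 3]

namespace Setup

variable (D : Setup G F)
include D

/-- Two Sylow 3-subgroups sharing an element of order three are equal. -/
theorem sylow_unique {x : G} (hx : orderOf x = 3) {P Q : Sylow 3 G} (hxP : x ∈ P) (hxQ : x ∈ Q) :
    P = Q := by
  haveI : Fact (Nat.Prime 3) := ⟨Nat.prime_three⟩
  haveI : Fact (Nat.Prime 2) := ⟨Nat.prime_two⟩
  have hcomm : ∀ (S : Sylow 3 G), x ∈ S → ∀ a ∈ S, Commute a x := fun S hS a ha =>
    congrArg Subtype.val (D.three_comm S ⟨a, ha⟩ ⟨x, hS⟩)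
  suffices h : ∃ R : Subgroup G, IsPGroup 3 R ∧
      ∀ (a : G) (j : ℕ), Commute a x → a ^ (3 ^ j) = 1 → a ∈ R by
    obtain ⟨R, hR, hin⟩ := h
    have hle : ∀ S : Sylow 3 G, x ∈ S → (S : Subgroup G) ≤ R := fun S hS a ha => by
      obtain ⟨j, hj⟩ := S.isPGroup' ⟨a, ha⟩
      exact hin a j (hcomm S hS a ha) (congrArg Subtype.val hj)
    exact Sylow.ext ((P.is_maximal' hR (hle P hxP)).symm.trans (Q.is_maximal' hR (hle Q hxQ)))
  by_cases hex : ∃ z, orderOf z = 2 ∧ Commute x z
  · obtain ⟨z, hz, hxz⟩ := hex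
    obtain ⟨R, -, -, hin⟩ := D.exists_big hz hxz hx
    exact ⟨R, R.isPGroup', hin⟩
  · set C := Subgroup.centralizer ({x} : Set G)
    refine ⟨C, ?_, fun a j ha _ => Subgroup.mem_centralizer_singleton_iff.2 ha.eq⟩
    refine IsPGroup.of_card (n := (Nat.card C).primeFactorsList.length)
      (Nat.eq_prime_pow_of_unique_prime_dvd Nat.card_pos.ne' fun {p} hp hpd => ?_)
    haveI : Fact p.Prime := ⟨hp⟩
    obtain ⟨⟨w, hwC⟩, hw⟩ := exists_prime_orderOf_dvd_card' p hpd
    rw [Subgroup.orderOf_mk] at hw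
    have hwx : Commute x w := (Subgroup.mem_centralizer_singleton_iff.1 hwC).symm
    by_contra hp3
    by_cases hp2 : p = 2
    · subst hp2
      exact hex ⟨w, hw, hwx⟩
    · have h4 : p ≠ 4 := fun e => by rw [e] at hp; exact (by norm_num : ¬ Nat.Prime 4) hp
      have := hp.two_le
      exact D.not_commute_prime hp (by omega) hx hw hwx

/-- The configuration is contradictory. -/
theorem false : False := by
  classical
  haveI : Fact (Nat.Prime 3) := ⟨Nat.prime_three⟩
  haveI : Fact (Nat.Prime 2) := ⟨Nat.prime_two⟩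
  haveI := D.simple
  letI := Fintype.ofFinite G
  obtain ⟨h8, h27, hq5, h3q⟩ := D.q_facts
  set q := Fintype.card F with hq
  set t := D.t
  have ht : orderOf t = 2 := D.E₀.orderOf_s
  have htt : t * t = 1 := by rw [← pow_two, ← ht, pow_orderOf_eq_one]
  -- an element of order three centralizing `t`
  set y₀ := D.E₀.up (L2.upper (1 : F)) with hy₀
  have hy : orderOf y₀ = 3 := by
    rw [hy₀, orderOf_injective _ D.E₀.up_injective]
    refine orderOf_eq_prime ?_ ?_
    · have h3 : (3 : F) = 0 := by exact_mod_cast CharP.cast_eq_zero F 3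
      rw [pow_succ, pow_two, L2.upper, ← map_mul, ← map_mul, CfsgLib.SL2Char.bEl_one_mul,
        CfsgLib.SL2Char.bEl_one_mul, show (1 : F) + 1 + 1 = 0 by linear_combination h3,
        CfsgLib.SL2Char.bEl_one_zero, map_one]
    · intro e
      refine one_ne_zero (α := F) (transvection_inj ?_)
      show prj _ = prj _
      rw [CfsgLib.SL2Char.bEl_one_zero, map_one]
      exact e
  have hyt : Commute y₀ t := D.E₀.up_commute _
  obtain ⟨P, hyP, hPy, hP⟩ := D.exists_big ht hyt hy
  obtain ⟨htN, K, hK, hNK⟩ := D.big_oddPart ht hyt hy hyP hPy hP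
  obtain ⟨A, hA, hAprop⟩ := D.big_torus ht hyt hy hP
  set N := Subgroup.normalizer ((P : Subgroup G) : Set G) with hN
  have hPcard : Nat.card (P : Subgroup G) = q ^ 3 := D.card_sylow_three P
  have hPK : (P : Subgroup G) ≤ K := fun a ha => by
    obtain ⟨j, hj⟩ := P.isPGroup' ⟨a, ha⟩
    exact hK.mem a (Subgroup.le_normalizer ha) (odd_three (congrArg Subtype.val hj))
  have hAodd : Odd (Nat.card A) := by rw [Nat.odd_iff]; omega
  have hA3 : ¬ 3 ∣ Nat.card A := fun h => by
    obtain ⟨c, hc⟩ := h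
    obtain ⟨d, hd⟩ := h3q
    omega
  have hpow3 : 1 ≤ q ^ 3 := Nat.one_le_pow _ _ (by omega)
  -- the index of `P` in the odd part of its normalizer
  have hj : (P : Subgroup G).relIndex K ∣ Nat.card A := by
    set j := (P : Subgroup G).relIndex K with hjdef
    have hjodd : Odd j := hK.odd.of_dvd_nat (Subgroup.relIndex_dvd_card _ _)
    have hjG : j ∣ (P : Subgroup G).index := Subgroup.relIndex_dvd_index_of_le hPK
    have hidx : (P : Subgroup G).index = (q ^ 3 + 1) * (q - 1) := by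
      have h := (P : Subgroup G).card_mul_index
      rw [hPcard, D.card_G, mul_assoc] at h
      exact Nat.eq_of_mul_eq_mul_left (by omega) h
    have hcop : Nat.Coprime j (q ^ 3 + 1) := by
      by_contra hne
      obtain ⟨p, hp, hpj, hpq⟩ := Nat.Prime.not_coprime_iff_dvd.1 hne
      haveI : Fact p.Prime := ⟨hp⟩
      have hpK : p ∣ Nat.card K := hpj.trans (Subgroup.relIndex_dvd_card _ _)
      have hp2 : p ≠ 2 := fun e => Nat.not_even_iff_odd.2 hjodd (even_iff_two_dvd.2 (e ▸ hpj))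
      have hp3 : p ≠ 3 := fun e => P.not_dvd_index ((e ▸ hpj).trans hjG)
      have h5 : 5 ≤ p := by
        have := hp.two_le
        have h4 : p ≠ 4 := fun e => by rw [e] at hp; exact (by norm_num : ¬ Nat.Prime 4) hp
        omega
      obtain ⟨⟨w, hwK⟩, hw⟩ := exists_prime_orderOf_dvd_card' p hpK
      rw [Subgroup.orderOf_mk] at hw
      have h1 := D.dvd_of_fpf hp P (hK.le hwK) hw fun x hx => D.not_commute_prime hp h5 hx hw
      have h3 := Nat.dvd_sub hpq h1
      rw [show q ^ 3 + 1 - (q ^ 3 - 1) = 2 by omega] at h3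
      have := Nat.le_of_dvd two_pos h3
      omega
    have h2 : j ∣ q - 1 := hcop.dvd_of_dvd_mul_left (hidx ▸ hjG)
    rw [← hA] at h2
    exact (Nat.coprime_two_right.2 hjodd).dvd_of_dvd_mul_left h2
  have hKcard : Nat.card K ≤ Nat.card A * q ^ 3 := by
    rw [← Subgroup.relIndex_bot_left (H := K),
      ← Subgroup.relIndex_mul_relIndex ⊥ (P : Subgroup G) K bot_le hPK, Subgroup.relIndex_bot_left,
      hPcard, mul_comm]
    exact Nat.mul_le_mul_right _ (Nat.le_of_dvd Nat.card_pos hj)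
  -- the complement
  set H := A ⊔ Subgroup.zpowers t with hH
  have hAt : A ≤ Subgroup.normalizer (Subgroup.zpowers t : Set G) := fun a ha => by
    refine Subgroup.centralizer_le_normalizer _ (Subgroup.mem_centralizer_iff.2 ?_)
    rintro _ ⟨i, rfl⟩
    exact ((hAprop a ha).1.zpow_right i).eq.symm
  have hHcard : Nat.card H = q - 1 := by
    rw [hH, CfsgLib.Coprime.card_sup_of_disjoint hAt, Nat.card_zpowers, ht, mul_comm, hA]
    rw [inf_comm]
    exact Subgroup.inf_eq_bot_of_coprime (by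
      rw [Nat.card_zpowers, ht]; exact Nat.coprime_two_right.2 hAodd)
  have hHN : H ≤ N := sup_le (fun a ha => (hAprop a ha).2.1) ((Subgroup.zpowers_le).2 htN)
  have hHmem : ∀ h ∈ H, ∃ a ∈ A, h = a ∨ h = a * t := by
    intro h hh
    obtain ⟨a, ha, b, hb, rfl⟩ := CfsgLib.Coprime.exists_mul_of_mem_sup hAt hh
    refine ⟨a, ha, ?_⟩
    rcases CfsgLib.InvChar.KleinCentralizer.cases_of_mem_zpowers ht hb with e | e <;> rw [e]
    · exact Or.inl (mul_one a)
    · exact Or.inr rfl
  have hHt : ∀ h ∈ H, Commute h t := fun h hh => by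
    obtain ⟨a, ha, e | e⟩ := hHmem h hh <;> rw [e]
    · exact (hAprop a ha).1
    · exact (hAprop a ha).1.mul_left (Commute.refl t)
  have hdisj : (P : Subgroup G) ⊓ H = ⊥ := Subgroup.inf_eq_bot_of_coprime (by
    rw [hPcard, hHcard]
    refine Nat.Coprime.pow_left 3 ?_
    rw [Nat.coprime_comm]
    exact (Nat.coprime_self_sub_left (show 1 ≤ q by omega)).2 (Nat.coprime_one_left q))
  have hTI : TIData (P : Subgroup G) H :=
    { comm := fun a ha b hb => congrArg Subtype.val (D.three_comm P ⟨a, ha⟩ ⟨b, hb⟩)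
      ti := fun g x hx hx1 hgx => by
        obtain ⟨j, hj'⟩ := P.isPGroup' ⟨x, hx⟩
        obtain ⟨n, hn⟩ := exists_pow_three (congrArg Subtype.val hj' : x ^ (3 ^ j) = 1) hx1
        have hn' : orderOf (g * x ^ n * g⁻¹) = 3 := by
          rw [show g * x ^ n * g⁻¹ = MulAut.conj g (x ^ n) from rfl, MulEquiv.orderOf_eq, hn]
        have h1 : g * x ^ n * g⁻¹ ∈ P := by
          rw [← conj_pow]; exact pow_mem hgx n
        have h2 : g * x ^ n * g⁻¹ ∈ (g • P : Sylow 3 G) := ⟨x ^ n, pow_mem hx n, rfl⟩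
        exact Sylow.smul_eq_iff_mem_normalizer.1 (D.sylow_unique hn' h2 h1)
      le := hHN
      split := fun n hn => by
        have hsup : H ⊔ (P : Subgroup G) = N := by
          refine Subgroup.eq_of_le_of_card_ge (sup_le hHN Subgroup.le_normalizer) ?_
          rw [CfsgLib.Coprime.card_sup_of_disjoint hHN hdisj, hHcard, hPcard, hNK, ← hA]
          nlinarith [hKcard]
        have hn' : n ∈ H ⊔ (P : Subgroup G) := by rw [hsup]; exact hn
        obtain ⟨h, hh, p, hp, rfl⟩ := CfsgLib.Coprime.exists_mul_of_mem_sup hHN hn'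
        exact ⟨h * p * h⁻¹, (Subgroup.mem_normalizer_iff.1 (hHN hh) p).1 hp, h, hh, by group⟩
      disj := fun x hx hxH => Subgroup.mem_bot.1 (hdisj ▸ Subgroup.mem_inf.2 ⟨hx, hxH⟩)
      card := by rw [hPcard, hHcard, D.card_G, ← hq]; ring }
  -- fixed points of the complement on linear characters
  let T : H := ⟨t, Subgroup.mem_sup_right (Subgroup.mem_zpowers t)⟩
  have hcomm := hTI.comm
  let c : ∀ h : H, (P : Subgroup G) →* (P : Subgroup G) := fun h =>
    { toFun := fun x => ⟨(x : G)⁻¹ * ((h : G) * x * (h : G)⁻¹), mul_mem (inv_mem x.2)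
        ((Subgroup.mem_normalizer_iff.1 (hHN h.2) x).1 x.2)⟩
      map_one' := Subtype.ext (by simp)
      map_mul' := fun a b => Subtype.ext (by
        simp only [Subgroup.coe_mul]
        have ha := (Subgroup.mem_normalizer_iff.1 (hHN h.2) a).1 a.2
        calc ((a : G) * b)⁻¹ * ((h : G) * ((a : G) * b) * (h : G)⁻¹)
            = (b : G)⁻¹ * ((a : G)⁻¹ * ((h : G) * a * (h : G)⁻¹)) *
                ((h : G) * b * (h : G)⁻¹) := by group
          _ = _ := by
            rw [hcomm _ (inv_mem b.2) _ (mul_mem (inv_mem a.2) ha)]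
            simp [mul_assoc]) }
  have hfix : ∀ (h : H) (l : ↥(P : Subgroup G) →* ℂˣ), hTI.act h l = l → ∀ x, l (c h x) = 1 := by
    intro h l hl x
    have e : c h x = x⁻¹ * ⟨(h : G) * x * (h : G)⁻¹,
        (Subgroup.mem_normalizer_iff.1 (hHN h.2) x).1 x.2⟩ := Subtype.ext rfl
    rw [e, map_mul, map_inv, ← hTI.act_apply h l x, hl, inv_mul_cancel]
  have hAfix : ∀ a ∈ A, a ≠ 1 → ∀ x ∈ P, Commute a x → x = 1 := by
    intro a ha ha1 x hx hax
    by_contra hx1
    obtain ⟨j, hj'⟩ := P.isPGroup' ⟨x, hx⟩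
    obtain ⟨n, hn⟩ := exists_pow_three (congrArg Subtype.val hj' : x ^ (3 ^ j) = 1) hx1
    obtain ⟨p, hp, hpd⟩ := Nat.exists_prime_and_dvd (fun e => ha1 (orderOf_eq_one_iff.1 e))
    have hpA : p ∣ Nat.card A := hpd.trans (Subgroup.orderOf_dvd_natCard A ha)
    have hp2 : p ≠ 2 := fun e => Nat.not_even_iff_odd.2 hAodd (even_iff_two_dvd.2 (e ▸ hpA))
    have hp3 : p ≠ 3 := fun e => hA3 (e ▸ hpA)
    have h4 : p ≠ 4 := fun e => by rw [e] at hp; exact (by norm_num : ¬ Nat.Prime 4) hp
    have := hp.two_le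
    obtain ⟨d, hd⟩ := hpd
    refine D.not_commute_prime hp (by omega) hn (u := a ^ d) ?_
      ((hax.symm.pow_left n).pow_right d)
    have hd0 : d ≠ 0 := fun e => (orderOf_pos a).ne' (by rw [hd, e, mul_zero])
    rw [orderOf_pow' _ hd0, hd, Nat.gcd_eq_right (dvd_mul_left d p),
      Nat.mul_div_cancel _ (Nat.pos_of_ne_zero hd0)]
  have hAone : ∀ (h : H), (h : G) ∈ A → h ≠ 1 → ∀ l : ↥(P : Subgroup G) →* ℂˣ,
      hTI.act h l = l → l = 1 := by
    intro h hhA hh1 l hl
    have hinj : Function.Injective (c h) := by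
      rw [← MonoidHom.ker_eq_bot_iff, Subgroup.eq_bot_iff_forall]
      intro x hx
      have e : (x : G)⁻¹ * ((h : G) * x * (h : G)⁻¹) = 1 := congrArg Subtype.val hx
      exact Subtype.ext (hAfix h hhA (fun e => hh1 (Subtype.ext e)) x x.2
        (mul_inv_eq_iff_eq_mul.1 (inv_mul_eq_one.1 e).symm))
    refine MonoidHom.ext fun x => ?_
    obtain ⟨x', rfl⟩ := (Finite.injective_iff_surjective.1 hinj) x
    exact hfix h l hl x'
  have hfreeT : ∀ l : ↥(P : Subgroup G) →* ℂˣ, ¬ hTI.Free l → ∀ x, l (c T x) = 1 := by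
    intro l hl
    unfold TIData.Free at hl
    push Not at hl
    obtain ⟨h, hh1, hhl⟩ := hl
    obtain ⟨a, ha, e | e⟩ := hHmem h h.2
    · intro x
      rw [hAone h (e ▸ ha) hh1 l hhl, MonoidHom.one_apply]
    · by_cases ha1 : a = 1
      · rw [ha1, one_mul] at e
        exact hfix T l (by rw [show T = h from Subtype.ext e.symm]; exact hhl)
      · have hsq : ((h * h : H) : G) = a ^ 2 := by
          rw [Subgroup.coe_mul, e, pow_two]
          calc a * t * (a * t) = a * (t * a) * t := by group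
            _ = a * a * (t * t) := by rw [← (hAprop a ha).1.eq]; group
            _ = a * a := by rw [htt, mul_one]
        intro x
        rw [hAone (h * h) (hsq ▸ pow_mem ha 2) (fun e' => ha1 ((hAprop a ha).2.2.2 (by
          rw [← hsq, e']; exact Commute.one_left y₀))) l (by rw [hTI.act_mul, hhl, hhl]),
          MonoidHom.one_apply]
  -- the fixed points of `t`
  set E := (P : Subgroup G) ⊓ Subgroup.centralizer ({t} : Set G) with hE
  have hEle : E ≤ D.Ev ht hyt := fun e he => by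
    obtain ⟨j, hj'⟩ := P.isPGroup' ⟨e, he.1⟩
    exact (D.mem_Ev ht hyt hy).2 ⟨Subgroup.mem_centralizer_singleton_iff.1 he.2, hPy e he.1,
      odd_three (congrArg Subtype.val hj')⟩
  have hEcard : Nat.card E ≤ q :=
    (Subgroup.card_le_of_le hEle).trans (D.card_Ev ht hyt hy).le
  have hsum : ∀ x : ↥(P : Subgroup G), (x : G) * (t * x * t⁻¹) ∈ E := by
    intro x
    have hxt := (Subgroup.mem_normalizer_iff.1 htN x).1 x.2
    refine Subgroup.mem_inf.2 ⟨mul_mem x.2 hxt, Subgroup.mem_centralizer_singleton_iff.2 ?_⟩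
    have hti : t⁻¹ = t := inv_eq_of_mul_eq_one_right htt
    rw [hti] at hxt ⊢
    calc (x : G) * (t * x * t) * t = (x : G) * t * x * (t * t) := by group
      _ = (t * t) * ((x : G) * t * x) := by rw [htt, mul_one, one_mul]
      _ = t * ((t * x * t) * x) := by group
      _ = t * ((x : G) * (t * x * t)) := by rw [hcomm _ hxt _ x.2]
  have hPodd : ∀ x : ↥(P : Subgroup G), ∃ k : ℕ, (x ^ 2) ^ k = x := fun x => by
    obtain ⟨j, hj'⟩ := P.isPGroup' x
    obtain ⟨k, hk⟩ := (show Odd (3 ^ j) from Odd.pow ⟨1, rfl⟩)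
    exact ⟨k + 1, by rw [← pow_mul, show 2 * (k + 1) = 3 ^ j + 1 by omega, pow_succ, hj', one_mul]⟩
  haveI : Finite (↥(P : Subgroup G) →* ℂˣ) := CfsgLib.LinearTwist.finite_unitsHom
  haveI : Finite (↥E →* ℂˣ) := CfsgLib.LinearTwist.finite_unitsHom
  have hbad : Nat.card {l : ↥(P : Subgroup G) →* ℂˣ // ¬ hTI.Free l} ≤ q := by
    refine le_trans ?_ hEcard
    rw [← CfsgLib.BSW.card_dual (A := E) fun a b => Subtype.ext (hcomm a a.2.1 b b.2.1)]
    refine Nat.card_le_card_of_injective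
      (fun l => l.1.comp (Subgroup.inclusion inf_le_left)) fun l l' hll => ?_
    refine Subtype.ext (MonoidHom.ext fun x => ?_)
    have key : ∀ m : {l : ↥(P : Subgroup G) →* ℂˣ // ¬ hTI.Free l},
        m.1 (x ^ 2) = m.1.comp (Subgroup.inclusion inf_le_left) ⟨_, hsum x⟩ := by
      intro m
      have h1 := hfreeT m.1 m.2 x
      show m.1 (x ^ 2) = m.1 (Subgroup.inclusion _ _)
      have e : (Subgroup.inclusion inf_le_left ⟨_, hsum x⟩ : ↥(P : Subgroup G)) = x ^ 2 * c T x :=
        Subtype.ext (by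
          show (x : G) * (t * x * t⁻¹) = (x : G) ^ 2 * ((x : G)⁻¹ * (t * x * t⁻¹))
          group)
      rw [e, map_mul, h1, mul_one]
    obtain ⟨k, hk⟩ := hPodd x
    rw [← hk, map_pow l.1 (x ^ 2) k, map_pow l'.1 (x ^ 2) k, key l, key l']
    exact congrArg (· ^ k) (DFunLike.congr_fun hll _)
  have hdual : Nat.card (↥(P : Subgroup G) →* ℂˣ) = q ^ 3 := by
    rw [CfsgLib.BSW.card_dual fun a b => Subtype.ext (hcomm a a.2 b b.2), hPcard]
  have hfree : q ^ 3 ≤ Nat.card {l : ↥(P : Subgroup G) →* ℂˣ // hTI.Free l} + q := by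
    rw [← hdual, ← Nat.card_congr (Equiv.sumCompl hTI.Free), Nat.card_sum]
    exact Nat.add_le_add_left hbad _
  have hmany : (2 * Nat.card H + 2) * Nat.card H <
      Nat.card {l : ↥(P : Subgroup G) →* ℂˣ // hTI.Free l} := by
    rw [hHcard]
    obtain ⟨n, hn⟩ : ∃ n, q = n + 1 := ⟨q - 1, by omega⟩
    rw [hn, Nat.add_sub_cancel]
    rw [hn] at hfree h27
    have h3 := Nat.mul_le_mul_left (n * (n + 1)) (show 3 ≤ n + 2 by omega)
    have h4 : (n + 1) ^ 3 = n * (n + 1) * (n + 2) + (n + 1) := by ring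
    have h5 : 0 < n * (n + 1) := Nat.mul_pos (by omega) (by omega)
    nlinarith
  -- a free character trivial on `E`
  obtain ⟨x, hxE⟩ : ∃ x : ↥(P : Subgroup G), (x : G) ∉ E := by
    by_contra hall
    push Not at hall
    have := Subgroup.card_le_of_le (show (P : Subgroup G) ≤ E from fun a ha => hall ⟨a, ha⟩)
    rw [hPcard] at this
    have hlt : q < q ^ 3 := lt_self_pow₀ (by omega) (by omega)
    omega
  have hcE : ∀ e : ↥(P : Subgroup G), (e : G) ∈ E → c T e = 1 := fun e he => Subtype.ext (by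
    show (e : G)⁻¹ * (t * e * t⁻¹) = 1
    rw [← (show Commute (e : G) t from Subgroup.mem_centralizer_singleton_iff.1 he.2).eq,
      mul_inv_cancel_right, inv_mul_cancel])
  have hx2 : c T (c T x) ≠ 1 := by
    intro e
    set w := c T x with hw
    have e1 : t * (w : G) * t⁻¹ = w := by
      have := congrArg Subtype.val e
      exact (inv_mul_eq_one.1 this).symm
    have e2 : t * (w : G) * t⁻¹ = (w : G)⁻¹ := by
      show t * ((x : G)⁻¹ * (t * x * t⁻¹)) * t⁻¹ = ((x : G)⁻¹ * (t * x * t⁻¹))⁻¹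
      have hti : t⁻¹ = t := inv_eq_of_mul_eq_one_right htt
      rw [hti, mul_inv_rev, inv_inv, mul_inv_rev, mul_inv_rev, hti]
      simp [mul_assoc, htt]
    have hsq : w ^ 2 = 1 := Subtype.ext (by
      rw [Subgroup.coe_pow, pow_two]
      nth_rw 2 [← e1]
      rw [e2]; exact mul_inv_cancel _)
    obtain ⟨k, hk⟩ := hPodd w
    have hw1 : w = 1 := by rw [← hk, hsq, one_pow]
    refine hxE (Subgroup.mem_inf.2 ⟨x.2, Subgroup.mem_centralizer_singleton_iff.2 ?_⟩)
    exact (mul_inv_eq_iff_eq_mul.1 (inv_mul_eq_one.1 (congrArg Subtype.val hw1)).symm).symm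
  obtain ⟨m, hm⟩ := CfsgLib.BSW.dual_separates
    (A := ↥(P : Subgroup G)) (fun a b => Subtype.ext (hcomm a a.2 b b.2)) hx2
  refine hTI.false_of_simple hmany E (e := y₀)
    ⟨hyP, Subgroup.mem_centralizer_singleton_iff.2 hyt.eq⟩ hyP
    (fun e => by rw [e, orderOf_one] at hy; omega) ?_ (m.comp (c T)) ?_ ?_ ?_
  · rintro k hk a ⟨ha1, ha2⟩
    refine ⟨(Subgroup.mem_normalizer_iff.1 (hHN hk) a).1 ha1,
      Subgroup.mem_centralizer_singleton_iff.2 ?_⟩
    exact (((hHt k hk).mul_left (Subgroup.mem_centralizer_singleton_iff.1 ha2)).mul_left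
      (hHt k hk).inv_left).eq
  · by_contra hnf
    exact hm (hfreeT _ hnf x)
  · intro e
    exact hm (DFunLike.congr_fun e (c T x))
  · intro e he
    show m (c T e) = 1
    rw [hcE e he, map_one]

end Setup

end CfsgLib.ReeAbelian
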