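import Cfsg.Agent.Lib.Walter.ReeAbelian.Big

/-!
# No element of order three commutes with an element of prime order at least five
-/

set_option autoImplicit false
set_option linter.style.haveILetI false
set_option linter.unusedSectionVars false

noncomputable section

namespace CfsgLib.ReeAbelian

open Cfsg CfsgLib.ReeType

universe u

variable {G : Type u} [Group G] [Finite G] {F : Type} [Field F] [Fintype F] [DecidableEq F]
  [CharP F 3]

namespace Setup

variable (D : Setup G F)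
include D

/-- Elements moving `y` inside its Sylow subgroup normalize it. -/
theorem big_conj {y : G} {P : Sylow 3 G}
    (hP : ∀ (a : G) (j : ℕ), Commute a y → a ^ (3 ^ j) = 1 → a ∈ P) {g : G}
    (hg : g⁻¹ * y * g ∈ P) : g ∈ Subgroup.normalizer ((P : Subgroup G) : Set G) := by
  refine CfsgLib.SL2Tori.mem_normalizer_of_conj_mem fun a ha => ?_
  obtain ⟨j, hj⟩ := P.isPGroup' ⟨a, ha⟩
  refine hP _ j ?_ ?_
  · have h : Commute a (g⁻¹ * y * g) := congrArg Subtype.val (D.three_comm P ⟨a, ha⟩ ⟨_, hg⟩)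
    simpa [MulAut.conj_apply, mul_assoc] using h.map (MulAut.conj g).toMonoidHom
  · rw [conj_pow, show a ^ (3 ^ j) = 1 from congrArg Subtype.val hj, mul_one, mul_inv_cancel]

/-- The odd part of the normalizer of the Sylow 3-subgroup. -/
theorem big_oddPart {z y : G} (hz : orderOf z = 2) (hyz : Commute y z) (hy : orderOf y = 3)
    {P : Sylow 3 G} (hyP : y ∈ P) (hPy : ∀ a ∈ P, Commute a y)
    (hP : ∀ (a : G) (j : ℕ), Commute a y → a ^ (3 ^ j) = 1 → a ∈ P) :
    z ∈ Subgroup.normalizer ((P : Subgroup G) : Set G) ∧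
      ∃ K : Subgroup G, IsOddPart (Subgroup.normalizer ((P : Subgroup G) : Set G)) K ∧
        Nat.card (Subgroup.normalizer ((P : Subgroup G) : Set G)) = Nat.card K * 2 := by
  set N := Subgroup.normalizer ((P : Subgroup G) : Set G) with hN
  have hzN : z ∈ N := D.big_conj hP (by
    rw [mul_assoc, hyz.eq, inv_mul_cancel_left]; exact hyP)
  refine ⟨hzN, ?_⟩
  obtain ⟨S, hS, hSN⟩ := CfsgLib.ReeType.exists_sylow_two (L := N) (t := ⟨z, hzN⟩)
    (by rwa [Subgroup.orderOf_mk]) (fun a ha k hk => by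
      have hn : Commute ((a : G) * y * (a : G)⁻¹) y :=
        hPy _ ((Subgroup.mem_normalizer_iff.1 a.2 y).1 hyP)
      rcases D.two_part_normalizing hz hyz hy (congrArg Subtype.val ha.eq) hn
        (congrArg Subtype.val hk) with e | e
      · exact Or.inl (Subtype.ext e)
      · exact Or.inr (Subtype.ext e))
  obtain ⟨K, hK, hc⟩ := exists_oddPart S hSN
  refine ⟨K, hK, hc.trans ?_⟩
  rw [show Nat.card S = Nat.card (Subgroup.zpowers (⟨z, hzN⟩ : N)) by rw [← hS],
    Nat.card_zpowers, Subgroup.orderOf_mk, hz]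

/-- The torus normalizing the Sylow 3-subgroup. -/
theorem big_torus {z y : G} (hz : orderOf z = 2) (hyz : Commute y z) (hy : orderOf y = 3)
    {P : Sylow 3 G} (hP : ∀ (a : G) (j : ℕ), Commute a y → a ^ (3 ^ j) = 1 → a ∈ P) :
    ∃ A : Subgroup G, 2 * Nat.card A = Fintype.card F - 1 ∧
      ∀ a ∈ A, Commute a z ∧ a ∈ Subgroup.normalizer ((P : Subgroup G) : Set G) ∧
        Odd (orderOf a) ∧ (Commute (a ^ 2) y → a = 1) := by
  obtain ⟨h8, h27, -, h3q⟩ := D.q_facts
  set E := D.cent hz with hE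
  have hy3 := D.orderOf_kap_three hz hyz hy
  obtain ⟨A, -, hA, hAn⟩ := L2.exists_borel_torus hy3
  refine ⟨A.map E.up, ?_, ?_⟩
  · rw [Subgroup.card_map_of_injective E.up_injective, hA]
  rintro _ ⟨a, ha, rfl⟩
  have hoa : orderOf (E.up a) ∣ Nat.card A := by
    rw [orderOf_injective _ E.up_injective]
    exact Subgroup.orderOf_dvd_natCard A ha
  have hodd : Odd (Nat.card A) := by
    rw [Nat.odd_iff]; omega
  refine ⟨E.up_commute a, ?_, hodd.of_dvd_nat hoa, fun h => ?_⟩
  · have hyup := eq_up_of_odd E hyz (by rw [hy]; exact ⟨1, rfl⟩)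
    refine D.big_conj hP (hP _ 1 ?_ ?_)
    · have h1 := hAn a⁻¹ (A.inv_mem ha) (kap E hyz) (Commute.refl _)
      have h2 := h1.map E.up
      simp only [map_mul, map_inv, inv_inv] at h2
      rwa [show E.up (kap E hyz) = y from hyup.symm] at h2
    · rw [pow_one, show (E.up a)⁻¹ * y * E.up a = MulAut.conj (E.up a)⁻¹ y by simp, ← map_pow, ← hy,
        pow_orderOf_eq_one, map_one]
  · have hc := kap_commute E ((E.up_commute a).pow_left 2) hyz h
    have h3 := (centralizer_three hy3).2.2 _ hc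
    have ho : Odd (orderOf (E.up a ^ 2)) := (hodd.of_dvd_nat hoa).of_dvd_nat (orderOf_pow_dvd 2)
    have h6 : (E.up a ^ 2) ^ 3 = 1 := by
      rw [eq_up_of_odd E ((E.up_commute a).pow_left 2) ho, ← map_pow, h3, map_one]
    rw [← pow_mul] at h6
    have hcop : Nat.Coprime (2 * 3) (Nat.card A) := by
      refine Nat.Coprime.mul_left (Nat.coprime_two_left.2 hodd)
        ((Nat.prime_three.coprime_iff_not_dvd).2 fun h3A => ?_)
      obtain ⟨c, hc'⟩ := h3q
      obtain ⟨d, hd'⟩ := h3A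
      omega
    exact orderOf_eq_one_iff.1
      (Nat.eq_one_of_dvd_coprimes hcop (orderOf_dvd_of_pow_eq_one h6) hoa)

/-- An element of prime order normalizing `P` that centralizes no element of order three. -/
theorem dvd_of_fpf {p : ℕ} (hp : p.Prime) (P : Sylow 3 G) {w : G}
    (hwN : w ∈ Subgroup.normalizer ((P : Subgroup G) : Set G)) (hw : orderOf w = p)
    (hfpf : ∀ x : G, orderOf x = 3 → ¬ Commute x w) : p ∣ Fintype.card F ^ 3 - 1 := by
  haveI : Fact p.Prime := ⟨hp⟩
  let φ : Subgroup.zpowers w →* MulAut (P : Subgroup G) :=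
    (Subgroup.normalizerMonoidHom (P : Subgroup G)).comp
      (Subgroup.inclusion (by rw [Subgroup.zpowers_le]; exact hwN))
  letI : MulAction (Subgroup.zpowers w) (P : Subgroup G) := MulAction.compHom _ φ
  have hW : IsPGroup p (Subgroup.zpowers w) :=
    IsPGroup.of_card (n := 1) (by rw [Nat.card_zpowers, hw, pow_one])
  have h := hW.card_modEq_card_fixedPoints (α := (P : Subgroup G))
  haveI : Unique (MulAction.fixedPoints (Subgroup.zpowers w) (P : Subgroup G)) :=
    { default := ⟨1, fun g => map_one (φ g)⟩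
      uniq := fun x => by
        refine Subtype.ext (Subtype.ext ?_)
        show ((x.1 : (P : Subgroup G)) : G) = 1
        by_contra hne
        obtain ⟨j, hj⟩ := P.isPGroup' x.1
        obtain ⟨n, hn⟩ := exists_pow_three (x := ((x.1 : (P : Subgroup G)) : G))
          (congrArg Subtype.val hj) hne
        refine hfpf _ hn (Commute.pow_left ?_ n)
        have hx := congrArg (fun a : (P : Subgroup G) => (a : G)) (x.2 ⟨w, Subgroup.mem_zpowers w⟩)
        exact (mul_inv_eq_iff_eq_mul.1 hx).symm }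
  rw [D.card_sylow_three P, Nat.card_unique] at h
  exact (Nat.modEq_iff_dvd' (Nat.one_le_pow _ _ (by have := D.q_facts; omega))).1 h.symm

/-- The primes dividing `R` do not occur in the normalizer of a Sylow 3-subgroup. -/
theorem not_dvd_R {p : ℕ} (hp : p.Prime) (h5 : 5 ≤ p) (P : Sylow 3 G) {w : G}
    (hwN : w ∈ Subgroup.normalizer ((P : Subgroup G) : Set G)) (hw : orderOf w = p) :
    ¬ p ∣ Fintype.card F ^ 2 - Fintype.card F + 1 := by
  intro hR
  have h1 := D.dvd_of_fpf hp P hwN hw fun x hx hc => D.no_mixed (x * w) p hp hR (by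
    rw [hc.orderOf_mul_eq_mul_orderOf_of_coprime (by
      rw [hx, hw]; exact (Nat.coprime_primes Nat.prime_three hp).2 (by omega)), hx, hw])
  obtain ⟨-, h27, -, -⟩ := D.q_facts
  set q := Fintype.card F
  have hq2 : q ≤ q ^ 2 := by rw [pow_two]; exact Nat.le_mul_of_pos_left q (by omega)
  have h2 : p ∣ q ^ 3 + 1 := hR.trans ⟨q + 1, by zify [hq2]; ring⟩
  have h3 := Nat.dvd_sub h2 h1
  have hpos : 1 ≤ q ^ 3 := Nat.one_le_pow _ _ (by omega)
  rw [show q ^ 3 + 1 - (q ^ 3 - 1) = 2 by omega] at h3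
  have := Nat.le_of_dvd two_pos h3
  omega

/-- An element `u` of prime order `r ∣ q + 1` inverted by `z` does not centralize `y ∈ C(z)`. -/
theorem false_of_fixed {r : ℕ} (hr : r.Prime) (h5 : 5 ≤ r) (hd : r ∣ Fintype.card F + 1)
    {z y u : G} (hz : orderOf z = 2) (hyz : Commute y z) (hy : orderOf y = 3)
    (hu : orderOf u = r) (hyu : Commute y u) (hzu : z * u * z⁻¹ = u⁻¹) : False := by
  classical
  haveI : Fact r.Prime := ⟨hr⟩
  haveI : Fact (Nat.Prime 3) := ⟨Nat.prime_three⟩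
  obtain ⟨h8, h27, -, h3q⟩ := D.q_facts
  obtain ⟨P, hyP, hPy, hP⟩ := D.exists_big hz hyz hy
  obtain ⟨hzN, K, hK, -⟩ := D.big_oddPart hz hyz hy hyP hPy hP
  obtain ⟨A, hA, hAprop⟩ := D.big_torus hz hyz hy hP
  set N := Subgroup.normalizer ((P : Subgroup G) : Set G) with hN
  have huN : u ∈ N := D.big_conj hP (by rw [mul_assoc, hyu.eq, inv_mul_cancel_left]; exact hyP)
  have hodd : Odd r := hr.odd_of_ne_two (by omega)
  have huK : u ∈ K := hK.mem u huN (hu ▸ hodd)
  have hPK : (P : Subgroup G) ≤ K := fun a ha => by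
    obtain ⟨j, hj⟩ := P.isPGroup' ⟨a, ha⟩
    exact hK.mem a (Subgroup.le_normalizer ha) (odd_three (congrArg Subtype.val hj))
  -- the quotient
  set P' := (P : Subgroup G).subgroupOf K with hP'
  haveI : P'.Normal := Subgroup.normal_subgroupOf_of_le_normalizer hK.le
  let π := QuotientGroup.mk' P'
  have hsolvK : Group.IsSolvable K := CfsgLib.PF.oddSolvable K hK.odd
  haveI : Group.IsSolvable (↥K ⧸ P') :=
    (Group.isSolvable_iff_subgroup_quotient P').1 hsolvK |>.2
  have hJ3 : ¬ 3 ∣ Nat.card (↥K ⧸ P') := fun h =>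
    P.not_dvd_index (h.trans (Subgroup.relIndex_dvd_index_of_le hPK))
  -- prime divisors of the quotient
  have hJp : ∀ p : ℕ, p.Prime → p ∣ Nat.card (↥K ⧸ P') → 5 ≤ p ∧
      (p ∣ Fintype.card F - 1 ∨ p ∣ Fintype.card F + 1) := by
    intro p hp hpd
    haveI : Fact p.Prime := ⟨hp⟩
    have hpK : p ∣ Nat.card K := hpd.trans (Subgroup.card_quotient_dvd_card P')
    have hp2 : p ≠ 2 := fun e => Nat.not_even_iff_odd.2 hK.odd (even_iff_two_dvd.2 (e ▸ hpK))
    have hp3 : p ≠ 3 := fun e => hJ3 (e ▸ hpd)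
    have h5' : 5 ≤ p := by
      have h2 := hp.two_le
      have h4 : p ≠ 4 := fun e => by rw [e] at hp; exact (by norm_num : ¬ Nat.Prime 4) hp
      omega
    refine ⟨h5', ?_⟩
    obtain ⟨⟨w, hwK⟩, hw⟩ := exists_prime_orderOf_dvd_card' p hpK
    rw [Subgroup.orderOf_mk] at hw
    rcases D.prime_cases hp h5' (hw ▸ orderOf_dvd_natCard w) with h | h
    · exact absurd h (D.not_dvd_R hp h5' P (hK.le hwK) hw)
    · exact h
  have hcyc : ∀ (p : ℕ), p.Prime → ∀ S : Subgroup (↥K ⧸ P'), IsPGroup p S → IsCyclic S := by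
    intro p hp S hS
    haveI : Fact p.Prime := ⟨hp⟩
    by_cases hpd : p ∣ Nat.card (↥K ⧸ P')
    · obtain ⟨Q, hQ⟩ := hS.exists_le_sylow
      obtain ⟨T, hT⟩ := Sylow.mapSurjective_surjective (QuotientGroup.mk'_surjective P') p Q
      obtain ⟨h5', hd'⟩ := hJp p hp hpd
      haveI : IsCyclic ((T : Subgroup K).map K.subtype) :=
        D.isCyclic_of_isPGroup hp h5' hd' (T.isPGroup'.map _)
      haveI : IsCyclic (T : Subgroup K) :=
        isCyclic_of_surjective ((T : Subgroup K).equivMapOfInjective K.subtype K.subtype_injective).symm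
          ((T : Subgroup K).equivMapOfInjective K.subtype K.subtype_injective).symm.surjective
      haveI : IsCyclic (Q : Subgroup (↥K ⧸ P')) := by
        rw [← hT, Sylow.coe_mapSurjective]
        exact isCyclic_of_surjective _ (MonoidHom.subgroupMap_surjective π (T : Subgroup K))
      exact isCyclic_of_injective (Subgroup.inclusion hQ) (Subgroup.inclusion_injective hQ)
    · obtain ⟨n, hn⟩ := IsPGroup.iff_card.1 hS
      have h1 : Nat.card S = 1 := by
        rcases n with _ | n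
        · simpa using hn
        · exact absurd ((dvd_pow_self p (Nat.succ_ne_zero n)).trans
            (hn ▸ Subgroup.card_subgroup_dvd_card S)) hpd
      haveI : Subsingleton S := (Nat.card_eq_one_iff_unique.1 h1).1
      exact isCyclic_of_subsingleton
  -- conjugation by `z`
  have hzK : ∀ k ∈ K, z * k * z⁻¹ ∈ K := fun k hk =>
    hK.conj_mem hk (N.mul_mem (N.mul_mem hzN (hK.le hk)) (N.inv_mem hzN))
  let σ₀ : MulAut K := Subgroup.normalizerMonoidHom K
    ⟨z, CfsgLib.SL2Tori.mem_normalizer_of_conj_mem hzK⟩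
  have hσ₀ : P'.map σ₀.toMonoidHom = P' := by
    refine Subgroup.eq_of_le_of_card_ge ?_ (Subgroup.card_map_of_injective σ₀.injective).ge
    rintro _ ⟨a, ha, rfl⟩
    exact Subgroup.mem_subgroupOf.2 ((Subgroup.mem_normalizer_iff.1 hzN (a : G)).1
      (Subgroup.mem_subgroupOf.1 ha))
  let σ : MulAut (↥K ⧸ P') := QuotientGroup.congr P' P' σ₀ hσ₀
  set ū : ↥K ⧸ P' := π ⟨u, huK⟩ with hū
  have hσu : σ ū = ū⁻¹ := by
    rw [hū, ← map_inv]
    show π (σ₀ ⟨u, huK⟩) = π (⟨u, huK⟩ : K)⁻¹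
    exact congrArg π (Subtype.ext hzu)
  have hū1 : ū ≠ 1 := fun e => by
    have hmem : u ∈ (P : Subgroup G) :=
      Subgroup.mem_subgroupOf.1 ((QuotientGroup.eq_one_iff _).1 e)
    obtain ⟨j, hj⟩ := P.isPGroup' ⟨u, hmem⟩
    have h1 := orderOf_dvd_of_pow_eq_one (show u ^ (3 ^ j) = 1 from congrArg Subtype.val hj)
    rw [hu] at h1
    have := (Nat.prime_dvd_prime_iff_eq hr Nat.prime_three).1 (hr.dvd_of_dvd_pow h1)
    omega
  have hūo : orderOf ū = r := orderOf_eq_prime (by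
    rw [hū, ← map_pow, show (⟨u, huK⟩ : K) ^ r = 1 from
      Subtype.ext (by rw [Subgroup.coe_pow, ← hu, pow_orderOf_eq_one]; rfl), map_one]) hū1
  haveI := CfsgLib.Fitting.fitting_normal (G := ↥K ⧸ P')
  have hcentF : Cfsg.fittingSubgroup (↥K ⧸ P') ≤ Subgroup.centralizer ({ū} : Set (↥K ⧸ P')) := by
    rw [CfsgLib.Fitting.fitting_eq_iSup_pCore]
    refine iSup_le fun p => fun c hc => ?_
    haveI : Fact (p : ℕ).Prime := ⟨Nat.prime_of_mem_primeFactors p.2⟩
    haveI := hcyc p (Fact.out) _ (CfsgLib.Fitting.pCore_isPGroup (G := ↥K ⧸ P') (p : ℕ))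
    refine Subgroup.mem_centralizer_singleton_iff.2 (Commute.symm ?_).eq
    refine inverted_commute (C := Cfsg.pCore (p : ℕ) (↥K ⧸ P')) σ ?_ ?_ hσu (hūo ▸ hodd) hc
    · intro d hd'
      have h := CfsgLib.Fitting.pCore_map_mulEquiv (p : ℕ) σ.symm
      rw [← h]
      exact ⟨d, hd', rfl⟩
    · intro d hd'
      exact (CfsgLib.Fitting.pCore_normal (G := ↥K ⧸ P') (p : ℕ)).conj_mem d hd' ū
  have hūF : ū ∈ Cfsg.fittingSubgroup (↥K ⧸ P') := by
    refine CfsgLib.Fitting.centralizer_fitting_le (Subgroup.mem_centralizer_iff.2 fun c hc => ?_)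
    exact Subgroup.mem_centralizer_singleton_iff.1 (hcentF hc)
  -- the torus normalizes `⟨ū⟩`
  have hnorm : ∀ a ∈ A, ∃ (i : ℤ), ¬ (r : ℤ) ∣ i ∧ (u ^ i)⁻¹ * (a * u * a⁻¹) ∈ P := by
    intro a ha
    obtain ⟨-, haN, hao, -⟩ := hAprop a ha
    let a' : K := ⟨a, hK.mem a haN hao⟩
    set b : ↥K ⧸ P' := π a' * ū * (π a')⁻¹ with hb
    have hbF : b ∈ Cfsg.fittingSubgroup (↥K ⧸ P') :=
      Subgroup.Normal.conj_mem inferInstance ū hūF _
    have hcomm : Commute b ū := Subgroup.mem_centralizer_singleton_iff.1 (hcentF hbF)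
    have hbo : orderOf b = r := by
      rw [hb, show π a' * ū * (π a')⁻¹ = MulAut.conj (π a') ū from rfl, MulEquiv.orderOf_eq, hūo]
    have hp : IsPGroup r (Subgroup.zpowers b ⊔ Subgroup.zpowers ū : Subgroup (↥K ⧸ P')) :=
      (IsPGroup.of_card (n := 1) (by rw [Nat.card_zpowers, hbo, pow_one]) :
        IsPGroup r (Subgroup.zpowers b)).to_sup_of_normal_right'
        (IsPGroup.of_card (n := 1) (by rw [Nat.card_zpowers, hūo, pow_one]) :
          IsPGroup r (Subgroup.zpowers ū)) (by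
          rw [Subgroup.zpowers_le]
          refine Subgroup.centralizer_le_normalizer _ (Subgroup.mem_centralizer_iff.2 ?_)
          rintro _ ⟨i, rfl⟩
          exact (hcomm.zpow_right i).eq.symm)
    haveI := hcyc r hr _ hp
    obtain ⟨i, hi⟩ := Subgroup.mem_zpowers_iff.1 (mem_zpowers_of_orderOf hr
      (Subgroup.mem_sup_right (Subgroup.mem_zpowers ū))
      (Subgroup.mem_sup_left (Subgroup.mem_zpowers b)) hūo (hbo.dvd))
    refine ⟨i, ?_, ?_⟩
    · rintro ⟨j, rfl⟩
      rw [zpow_mul, zpow_natCast, ← hūo, pow_orderOf_eq_one, one_zpow] at hi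
      rw [← hi, orderOf_one] at hbo
      exact hr.ne_one hbo.symm
    · have h1 : π (((⟨u, huK⟩ : K) ^ i)⁻¹ * (a' * ⟨u, huK⟩ * a'⁻¹)) = 1 := by
        rw [map_mul, map_mul, map_mul, map_inv, map_inv, map_zpow, ← hū, hi, ← hb, inv_mul_cancel]
      show _ ∈ (P : Subgroup G)
      simpa [a'] using Subgroup.mem_subgroupOf.1 ((QuotientGroup.eq_one_iff _).1 h1)
  -- the fixed points of `u` in `Ev`
  set C := D.Ev hz hyz ⊓ Subgroup.centralizer ({u} : Set G) with hC
  have hAC : ∀ a ∈ A, ∀ e ∈ C, a * e * a⁻¹ ∈ C := by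
    rintro a ha e ⟨heE, heu⟩
    obtain ⟨haz, haN, -, -⟩ := hAprop a ha
    obtain ⟨hez, hey, heo⟩ := (D.mem_Ev hz hyz hy).1 heE
    have he3 := D.Ev_cube hz hyz hy heE
    have heP : e ∈ P := hP e 1 hey (by rw [pow_one, he3])
    have he'P : a * e * a⁻¹ ∈ P := (Subgroup.mem_normalizer_iff.1 haN e).1 heP
    refine ⟨(D.mem_Ev hz hyz hy).2 ⟨(haz.mul_left hez).mul_left haz.inv_left, hPy _ he'P, ?_⟩, ?_⟩
    · rw [show a * e * a⁻¹ = MulAut.conj a e from rfl, MulEquiv.orderOf_eq]; exact heo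
    obtain ⟨i, hri, hi⟩ := hnorm a ha
    have h1 : Commute (a * e * a⁻¹) (a * u * a⁻¹) := by
      simpa [MulAut.conj_apply] using
        (show Commute e u from Subgroup.mem_centralizer_singleton_iff.1 heu).map
          (MulAut.conj a).toMonoidHom
    have h2 : Commute (a * e * a⁻¹) ((u ^ i)⁻¹ * (a * u * a⁻¹)) :=
      congrArg Subtype.val (D.three_comm P ⟨_, he'P⟩ ⟨_, hi⟩)
    have h3 : Commute (a * e * a⁻¹) (u ^ i) := by
      have := h1.mul_right h2.inv_right
      rwa [show a * u * a⁻¹ * ((u ^ i)⁻¹ * (a * u * a⁻¹))⁻¹ = u ^ i by group] at this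
    obtain ⟨c, d, hcd⟩ := ((Nat.prime_iff_prime_int.1 hr).coprime_iff_not_dvd).2 hri
    refine Subgroup.mem_centralizer_singleton_iff.2 ?_
    have hu' : u = (u ^ i) ^ d := by
      calc u = u ^ (c * (r : ℤ) + d * i) := by rw [hcd, zpow_one]
        _ = (u ^ (r : ℤ)) ^ c * (u ^ i) ^ d := by
          rw [zpow_add, mul_comm c, mul_comm d, zpow_mul, zpow_mul]
        _ = _ := by rw [zpow_natCast, ← hu, pow_orderOf_eq_one, one_zpow, one_mul]
    show _ * u = u * _
    rw [hu']
    exact (h3.zpow_right d).eq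
  have hC3 : ∀ e ∈ C, e ^ 3 = 1 := fun e he => D.Ev_cube hz hyz hy he.1
  have hCcard : Nat.card C = 3 := by
    have hCp : IsPGroup 3 C := fun e => ⟨1, Subtype.ext (by rw [pow_one]; exact hC3 e e.2)⟩
    obtain ⟨n, hn⟩ := IsPGroup.iff_card.1 hCp
    have h3 : 3 ∣ Nat.card C := by
      have := Subgroup.orderOf_dvd_natCard C (show y ∈ C from ⟨D.self_mem_Ev hz hyz hy,
        Subgroup.mem_centralizer_singleton_iff.2 hyu.eq⟩)
      rwa [hy] at this
    have h9 : ¬ 9 ∣ Nat.card C := fun h => D.not_nine hr h5 hd hu hz hzu (h.trans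
      (Subgroup.card_dvd_of_le fun e he => Subgroup.mem_inf.2 ⟨he.2,
        Subgroup.mem_centralizer_singleton_iff.2 ((D.mem_Ev hz hyz hy).1 he.1).1.eq⟩))
    rw [hn] at h3 h9 ⊢
    rcases n with _ | _ | n
    · norm_num at h3
    · rfl
    · exact absurd ⟨3 ^ n, by ring⟩ h9
  have hCy : C = Subgroup.zpowers y := (Subgroup.eq_of_le_of_card_ge (by
    rw [Subgroup.zpowers_le]
    exact ⟨D.self_mem_Ev hz hyz hy, Subgroup.mem_centralizer_singleton_iff.2 hyu.eq⟩)
    (by rw [hCcard, Nat.card_zpowers, hy])).symm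
  -- a non-trivial element of the torus
  haveI : Nontrivial A := Finite.one_lt_card_iff_nontrivial.1 (by omega)
  obtain ⟨⟨a, ha⟩, ha1⟩ := exists_ne (1 : A)
  refine ha1 (Subtype.ext ((hAprop a ha).2.2.2 ?_))
  have hmem := hAC a ha y (hCy ▸ Subgroup.mem_zpowers y)
  rw [hCy] at hmem
  obtain ⟨i, hi⟩ := Subgroup.mem_zpowers_iff.1 hmem
  -- `a` maps `y` to `y` or `y⁻¹`
  have hcases : a * y * a⁻¹ = y ∨ a * y * a⁻¹ = y⁻¹ := by
    rw [← hi, ← zpow_mod_orderOf y i, hy]
    have hne : i % 3 ≠ 0 := fun e => by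
      have h0 : a * y * a⁻¹ = 1 := by rw [← hi, ← zpow_mod_orderOf y i, hy]; simp [e]
      rw [conj_eq_one_iff] at h0
      rw [h0, orderOf_one] at hy
      omega
    have h01 : i % 3 = 1 ∨ i % 3 = 2 := by omega
    rcases h01 with e | e
    · left; simp [e]
    · right
      simp only [Nat.cast_ofNat, e]
      rw [eq_inv_iff_mul_eq_one, ← zpow_add_one, show (2 : ℤ) + 1 = ((3 : ℕ) : ℤ) by norm_num,
        zpow_natCast, ← hy, pow_orderOf_eq_one]
  show a ^ 2 * y = y * a ^ 2
  have h2 : a * (a * y * a⁻¹) * a⁻¹ = y := by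
    rcases hcases with e | e
    · rw [e, e]
    · rw [e, show a * y⁻¹ * a⁻¹ = (a * y * a⁻¹)⁻¹ by group, e, inv_inv]
  rw [pow_two]
  calc a * a * y = a * (a * y * a⁻¹) * a⁻¹ * (a * a) := by simp [mul_assoc]
    _ = y * (a * a) := by rw [h2]

/-- An element of order three commutes with no element of prime order dividing `q + 1`, other
than two. -/
theorem not_commute_plus {r : ℕ} (hr : r.Prime) (h5 : 5 ≤ r) (hd : r ∣ Fintype.card F + 1)
    {x u : G} (hx : orderOf x = 3) (hu : orderOf u = r) : ¬ Commute x u := by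
  classical
  intro hxu
  haveI : Fact (Nat.Prime 3) := ⟨Nat.prime_three⟩
  obtain ⟨v, hv, huv⟩ := D.exists_commuting hr h5 (Or.inr hd) hu
  obtain ⟨i, h⟩ := D.exists_four hr h5 hd hv huv hu
  set M := Subgroup.centralizer ({u} : Set G)
  have hM : ∀ a ∈ M, Commute a u := fun a ha => Subgroup.mem_centralizer_singleton_iff.1 ha
  rcases D.fusion hr h5 hd hv hu h huv hM (Subgroup.mem_centralizer_singleton_iff.2 huv.symm.eq)
      (Subgroup.mem_centralizer_singleton_iff.2 h.commute_u.eq) with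
    hno | ⟨g, hgM, hgv, -, -, hcyc⟩
  · exact hno x (Subgroup.mem_centralizer_singleton_iff.2 hxu.eq) hx
  have hgu : Commute g u := hM g hgM
  -- the cube of `g` commutes with `v`
  have hg3 : Commute (g ^ 3) v := by
    have e : g * (g * (g * v * g⁻¹) * g⁻¹) * g⁻¹ = v := by
      have hvv : v * v = 1 := by rw [← pow_two, ← hv, pow_orderOf_eq_one]
      have hii : i * i = 1 := by rw [← pow_two, ← h.order, pow_orderOf_eq_one]
      rcases hcyc with ⟨e1, e2⟩ | ⟨e1, e2⟩
      · rw [e1, e2, show g * (v * i) * g⁻¹ = (g * v * g⁻¹) * (g * i * g⁻¹) by group, e1, e2,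
          h.commute_v.symm.eq, ← mul_assoc, hii, one_mul]
      · rw [e1, show g * (v * i) * g⁻¹ = (g * v * g⁻¹) * (g * i * g⁻¹) by group, e1, e2,
          h.commute_v.symm.eq, mul_assoc i v v, hvv, mul_one, e2]
    show g ^ 3 * v = v * g ^ 3
    calc g ^ 3 * v = g * (g * (g * v * g⁻¹) * g⁻¹) * g⁻¹ * (g * (g * g)) := by
          rw [pow_succ, pow_two]; simp [mul_assoc]
      _ = v * (g * (g * g)) := by rw [e]
      _ = v * g ^ 3 := by rw [pow_succ, pow_two, mul_assoc g g g]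
  obtain ⟨k, m, hm, hgo⟩ := Nat.exists_eq_pow_mul_and_not_dvd (orderOf_pos g).ne' 3 (by norm_num)
  set y := g ^ m with hy
  have hyu : Commute y u := hgu.pow_left m
  have hyv : ¬ Commute y v := fun hc => hgv (by
    obtain ⟨a, b, hab⟩ := (Int.isCoprime_iff_nat_coprime.2 (show Nat.Coprime (3 : ℤ).natAbs
      (m : ℤ).natAbs by simpa using (Nat.prime_three.coprime_iff_not_dvd).2 hm) :
        IsCoprime (3 : ℤ) (m : ℤ))
    have e : g = (g ^ 3) ^ a * y ^ b := by
      rw [hy, ← zpow_natCast g m, ← zpow_natCast g 3, ← zpow_mul, ← zpow_mul, ← zpow_add,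
        show ((3 : ℕ) : ℤ) * a + (m : ℤ) * b = 1 by push_cast; linarith, zpow_one]
    rw [e]
    exact (hg3.zpow_left a).mul_left (hc.zpow_left b))
  have hy3 : orderOf y = 3 := by
    refine orderOf_eq_prime ?_ fun e => hyv (e ▸ Commute.one_left v)
    refine h.no_three _ k ?_ (hyu.pow_left 3) ?_
    · rw [hy, ← pow_mul, mul_comm, pow_mul]
      exact hg3.pow_left m
    · rw [hy, ← pow_mul, ← pow_mul, show m * (3 * 3 ^ k) = 3 ^ k * m * 3 by ring, ← hgo, pow_mul,
        pow_orderOf_eq_one, one_pow]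
  -- the involutions of `C(v, i)` inverting `u`
  obtain ⟨z₀, hz₀v, hz₀u⟩ := h.exists_z
  let Z := {z : G // Commute z v ∧ Commute z i ∧ z * u * z⁻¹ = u⁻¹}
  have hgZ : ∀ z : G, Commute z v ∧ Commute z i ∧ z * u * z⁻¹ = u⁻¹ →
      Commute (g * z * g⁻¹) v ∧ Commute (g * z * g⁻¹) i ∧
        (g * z * g⁻¹) * u * (g * z * g⁻¹)⁻¹ = u⁻¹ := by
    rintro z ⟨hzv, hzi, hzu⟩
    have c1 : Commute (g * z * g⁻¹) (g * v * g⁻¹) := by
      simpa [MulAut.conj_apply] using hzv.map (MulAut.conj g).toMonoidHom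
    have c2 : Commute (g * z * g⁻¹) (g * i * g⁻¹) := by
      simpa [MulAut.conj_apply] using hzi.map (MulAut.conj g).toMonoidHom
    have hfix : g⁻¹ * u * g = u := by rw [mul_assoc, hgu.symm.eq, inv_mul_cancel_left]
    refine ⟨?_, ?_, ?_⟩
    · rcases hcyc with ⟨e1, e2⟩ | ⟨e1, e2⟩ <;> rw [e1] at c1 <;> rw [e2] at c2
      · have := c2.mul_right c1.inv_right
        rwa [mul_inv_cancel_right] at this
      · exact c2
    · rcases hcyc with ⟨e1, e2⟩ | ⟨e1, e2⟩ <;> rw [e1] at c1 <;> rw [e2] at c2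
      · exact c1
      · have := c2.inv_right.mul_right c1
        rwa [inv_mul_cancel_left] at this
    · calc g * z * g⁻¹ * u * (g * z * g⁻¹)⁻¹ = g * (z * (g⁻¹ * u * g) * z⁻¹) * g⁻¹ := by group
        _ = g * u⁻¹ * g⁻¹ := by rw [hfix, hzu]
        _ = u⁻¹ := by rw [hgu.inv_right.eq, mul_inv_cancel_right]
  have hyZ : ∀ (n : ℕ) (z : G), Commute z v ∧ Commute z i ∧ z * u * z⁻¹ = u⁻¹ →
      Commute (g ^ n * z * (g ^ n)⁻¹) v ∧ Commute (g ^ n * z * (g ^ n)⁻¹) i ∧
        (g ^ n * z * (g ^ n)⁻¹) * u * (g ^ n * z * (g ^ n)⁻¹)⁻¹ = u⁻¹ := by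
    intro n
    induction n with
    | zero => intro z hz; simpa using hz
    | succ n ih =>
      intro z hz
      have := hgZ _ (ih z hz)
      rwa [show g ^ (n + 1) * z * (g ^ (n + 1))⁻¹ = g * (g ^ n * z * (g ^ n)⁻¹) * g⁻¹ by
        rw [pow_succ']; simp [mul_assoc]]
  have hmemY : ∀ a ∈ Subgroup.zpowers y, ∃ n : ℕ, a = g ^ n := fun a ha => by
    obtain ⟨n, hn⟩ := (Submonoid.mem_powers_iff _ _).1
      (mem_powers_iff_mem_zpowers.2 ha)
    exact ⟨m * n, by rw [← hn, hy, pow_mul]⟩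
  letI : MulAction (Subgroup.zpowers y) Z :=
    { smul := fun a z => ⟨(a : G) * z.1 * (a : G)⁻¹, by
        obtain ⟨n, hn⟩ := hmemY a a.2
        rw [hn]; exact hyZ n z.1 z.2⟩
      one_smul := fun z => Subtype.ext (by
        show ((1 : Subgroup.zpowers y) : G) * z.1 * ((1 : Subgroup.zpowers y) : G)⁻¹ = z.1
        simp)
      mul_smul := fun a b z => Subtype.ext (by
        show ((a * b : Subgroup.zpowers y) : G) * z.1 * ((a * b : Subgroup.zpowers y) : G)⁻¹ =
          (a : G) * ((b : G) * z.1 * (b : G)⁻¹) * (a : G)⁻¹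
        simp [mul_assoc]) }
  have hZcard : ¬ 3 ∣ Nat.card Z := by
    set W := Subgroup.centralizer ({v} : Set G) ⊓ Subgroup.centralizer ({u} : Set G)
    have hWv : ∀ a : W, Commute (a : G) v := fun a => Subgroup.mem_centralizer_singleton_iff.1 a.2.1
    have hWu : ∀ a : W, Commute (a : G) u := fun a => Subgroup.mem_centralizer_singleton_iff.1 a.2.2
    obtain ⟨hz₀i, hz₀z₀, -⟩ := h.fix z₀ hz₀v hz₀u
    have e : Nat.card Z = Nat.card W := Nat.card_congr
      { toFun := fun z => ⟨z.1 * z₀⁻¹,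
          Subgroup.mem_centralizer_singleton_iff.2 (z.2.1.mul_left hz₀v.inv_left).eq,
          Subgroup.mem_centralizer_singleton_iff.2 (by
            have h1 := z.2.2.2
            have h2 : z₀⁻¹ * u * z₀ = u⁻¹ := by
              rw [inv_eq_of_mul_eq_one_right hz₀z₀] at hz₀u ⊢
              exact hz₀u
            have h3 : z₀⁻¹ * u = u⁻¹ * z₀⁻¹ := eq_mul_inv_of_mul_eq h2
            have h4 : z.1 * u⁻¹ = u * z.1 := by
              have h5 := congrArg (·⁻¹) h1
              simp only [mul_inv_rev, inv_inv, ← mul_assoc] at h5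
              exact mul_inv_eq_iff_eq_mul.1 h5
            calc z.1 * z₀⁻¹ * u = z.1 * (z₀⁻¹ * u) := mul_assoc _ _ _
              _ = z.1 * u⁻¹ * z₀⁻¹ := by rw [h3, mul_assoc]
              _ = u * (z.1 * z₀⁻¹) := by rw [h4, mul_assoc])⟩
        invFun := fun a => ⟨(a : G) * z₀, (hWv a).mul_left hz₀v,
          (h.comm _ _ (hWv a) (hWu a) h.commute_v h.commute_u).mul_left hz₀i, by
            calc (a : G) * z₀ * u * ((a : G) * z₀)⁻¹ = (a : G) * (z₀ * u * z₀⁻¹) * (a : G)⁻¹ := by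
                  group
              _ = u⁻¹ := by rw [hz₀u, (hWu a).inv_right.eq, mul_inv_cancel_right]⟩
        left_inv := fun z => Subtype.ext (inv_mul_cancel_right _ _)
        right_inv := fun a => Subtype.ext (mul_inv_cancel_right _ _) }
    rw [e]
    intro h3
    obtain ⟨⟨a, haW⟩, ha⟩ := exists_prime_orderOf_dvd_card' 3 h3
    rw [Subgroup.orderOf_mk] at ha
    have := h.no_three a 1 (hWv ⟨a, haW⟩) (hWu ⟨a, haW⟩)
      (by rw [pow_one, ← ha, pow_orderOf_eq_one])
    rw [this, orderOf_one] at ha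
    omega
  obtain ⟨z, hzfix⟩ := (IsPGroup.of_card (n := 1) (by rw [Nat.card_zpowers, hy3, pow_one]) :
    IsPGroup 3 (Subgroup.zpowers y)).nonempty_fixed_point_of_prime_not_dvd_card Z hZcard
  have hyz : Commute y z.1 :=
    mul_inv_eq_iff_eq_mul.1 (congrArg Subtype.val (hzfix ⟨y, Subgroup.mem_zpowers y⟩))
  have hzz := (h.fix z.1 z.2.1 z.2.2.2).2.1
  have hz1 : z.1 ≠ 1 := fun e => by
    have h1 := z.2.2.2
    rw [e, one_mul, inv_one, mul_one] at h1
    have h2 := orderOf_dvd_of_pow_eq_one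
      (show u ^ 2 = 1 by rw [pow_two]; nth_rw 2 [h1]; exact mul_inv_cancel u)
    rw [hu] at h2
    have := Nat.le_of_dvd two_pos h2
    omega
  exact D.false_of_fixed hr h5 hd (orderOf_eq_prime (by rwa [pow_two]) hz1) hyz hy3 hu hyu z.2.2.2

/-- An element of order three commutes with no element of prime order at least five. -/
theorem not_commute_prime {r : ℕ} (hr : r.Prime) (h5 : 5 ≤ r) {x u : G} (hx : orderOf x = 3)
    (hu : orderOf u = r) : ¬ Commute x u := by
  intro hc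
  rcases D.prime_cases hr h5 (hu ▸ orderOf_dvd_natCard u) with h | h | h
  · exact D.no_mixed (x * u) r hr h (by
      rw [hc.orderOf_mul_eq_mul_orderOf_of_coprime (by
        rw [hx, hu]; exact (Nat.coprime_primes Nat.prime_three hr).2 (by omega)), hx, hu])
  · exact D.not_commute_minus hr h5 h hx hu hc
  · exact D.not_commute_plus hr h5 h hx hu hc

end Setup

end CfsgLib.ReeAbelian
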