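import Cfsg.Agent.Lib.Walter.ReeAbelian.L2
import Cfsg.Agent.Lib.ReeType.Basics
import Cfsg.Agent.Lib.ReeType.Main
import Cfsg.Agent.Lib.PF.OddOrder
import Cfsg.Agent.Lib.Coprime.Action

/-!
# The Ree configuration with abelian Sylow 3-subgroups: basic lemmas
-/

set_option autoImplicit false
set_option linter.style.haveILetI false
set_option linter.unusedSectionVars false

noncomputable section

namespace CfsgLib.ReeAbelian

open Cfsg CfsgLib.ReeType

universe u

/-- A simple group with the order and the centralizer of an involution of a Ree group and abelian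
Sylow 3-subgroups, in which no element has order `3r` with `r ∣ q² - q + 1` prime. -/
structure Setup (G : Type u) [Group G] (F : Type) [Field F] [Fintype F] [DecidableEq F] where
  simple : IsSimpleGroup G
  t : G
  E₀ : CentData t F
  m : ℕ
  one_le : 1 ≤ m
  card_F : Fintype.card F = 3 ^ (2 * m + 1)
  card_G : Nat.card G =
    Fintype.card F ^ 3 * (Fintype.card F ^ 3 + 1) * (Fintype.card F - 1)
  two_comm : ∀ P : Sylow 2 G, ∀ a b : P, a * b = b * a
  three_comm : ∀ P : Sylow 3 G, ∀ a b : P, a * b = b * a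
  one_class : ∀ v : G, orderOf v = 2 → IsConj t v
  no_mixed : ∀ (g : G) (r : ℕ), r.Prime →
    r ∣ Fintype.card F ^ 2 - Fintype.card F + 1 → orderOf g ≠ 3 * r

/-- The odd part of a group with a small Sylow 2-subgroup. -/
structure IsOddPart {G : Type u} [Group G] (D K : Subgroup G) : Prop where
  le : K ≤ D
  odd : Odd (Nat.card K)
  mem : ∀ a ∈ D, Odd (orderOf a) → a ∈ K

section General

variable {G : Type u} [Group G] [Finite G]

theorem IsOddPart.odd_order {D K : Subgroup G} (h : IsOddPart D K) {a : G} (ha : a ∈ K) :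
    Odd (orderOf a) := h.odd.of_dvd_nat (Subgroup.orderOf_dvd_natCard K ha)

theorem IsOddPart.conj_mem {D K : Subgroup G} (h : IsOddPart D K) {g k : G} (hk : k ∈ K)
    (hg : g * k * g⁻¹ ∈ D) : g * k * g⁻¹ ∈ K :=
  h.mem _ hg (by
    rw [show g * k * g⁻¹ = MulAut.conj g k from rfl, MulEquiv.orderOf_eq]
    exact h.odd_order hk)

/-- A Sylow 2-subgroup with central normalizer gives an odd part. -/
theorem exists_oddPart {D : Subgroup G} (P : Sylow 2 ↥D)
    (hP : Subgroup.normalizer ((P : Subgroup ↥D) : Set ↥D) ≤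
      Subgroup.centralizer ((P : Subgroup ↥D) : Set ↥D)) :
    ∃ K : Subgroup G, IsOddPart D K ∧ Nat.card D = Nat.card K * Nat.card P := by
  have : Fact (Nat.Prime 2) := ⟨Nat.prime_two⟩
  set K₀ := (MonoidHom.transferSylow P hP).ker
  have hc : Subgroup.IsComplement' K₀ (P : Subgroup ↥D) :=
    MonoidHom.ker_transferSylow_isComplement' P hP
  refine ⟨K₀.map D.subtype, ⟨Subgroup.map_subtype_le _, ?_, fun a ha hodd => ?_⟩, ?_⟩
  · rw [Subgroup.card_map_of_injective D.subtype_injective]
    exact Nat.not_even_iff_odd.1 fun h =>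
      MonoidHom.not_dvd_card_ker_transferSylow P hP h.two_dvd
  · refine ⟨⟨a, ha⟩, ?_, rfl⟩
    show (⟨a, ha⟩ : ↥D) ∈ K₀
    rw [MonoidHom.mem_ker, ← orderOf_eq_one_iff]
    obtain ⟨k, hk⟩ := P.isPGroup' (MonoidHom.transferSylow P hP ⟨a, ha⟩)
    obtain ⟨j, -, hj⟩ := (Nat.dvd_prime_pow Nat.prime_two).1 (orderOf_dvd_of_pow_eq_one hk)
    have hd : orderOf (MonoidHom.transferSylow P hP ⟨a, ha⟩) ∣ orderOf a := by
      rw [← Subgroup.orderOf_mk (H := D) a ha]
      exact orderOf_map_dvd _ _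
    rw [hj] at hd ⊢
    rcases Nat.eq_zero_or_pos j with rfl | hj0
    · rfl
    · exact absurd ((hodd.of_dvd_nat hd)) (Nat.not_odd_iff_even.2 ((Nat.even_pow' hj0.ne').2 even_two))
  · rw [Subgroup.card_map_of_injective D.subtype_injective, hc.card_mul_card]

/-- A group of odd order with two commuting fixed-point-free involutory actions has no element of
order three. -/
theorem no_three_of_four (h3 : ∀ P : Sylow 3 G, ∀ a b : P, a * b = b * a) {K : Subgroup G}
    (hK : Odd (Nat.card K)) {a b : G} (ha : a * a = 1) (hb : b * b = 1) (hab : Commute a b)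
    (hna : ∀ k ∈ K, a * k * a⁻¹ ∈ K) (hnb : ∀ k ∈ K, b * k * b⁻¹ ∈ K)
    (hfa : ∀ x ∈ K, ∀ j, x ^ (3 ^ j) = 1 → Commute x a → x = 1)
    (hfb : ∀ x ∈ K, ∀ j, x ^ (3 ^ j) = 1 → Commute x b → a * x * a⁻¹ = x⁻¹ → x = 1)
    (hfab : ∀ x ∈ K, ∀ j, x ^ (3 ^ j) = 1 → Commute x (a * b) → a * x * a⁻¹ = x⁻¹ → x = 1) :
    ∀ x ∈ K, orderOf x ≠ 3 := by
  intro x hx hx3
  have : Fact (Nat.Prime 3) := ⟨Nat.prime_three⟩
  let A : Subgroup G := Subgroup.zpowers a ⊔ Subgroup.zpowers b
  have hAK : A ≤ Subgroup.normalizer (K : Set G) := by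
    refine sup_le ?_ ?_ <;> rw [Subgroup.zpowers_le] <;>
      refine CfsgLib.Coprime.mem_normalizer_of_forall_conj ?_
    · exact hna
    · exact hnb
  have hcop : (Nat.card A).Coprime (Nat.card K) := by
    have hle : Subgroup.zpowers a ≤ Subgroup.normalizer (Subgroup.zpowers b : Set G) := by
      rw [Subgroup.zpowers_le]
      refine Subgroup.centralizer_le_normalizer _ (Subgroup.mem_centralizer_iff.2 ?_)
      rintro _ ⟨i, rfl⟩
      exact (hab.zpow_right i).eq.symm
    have hd : ∀ c : G, c * c = 1 → Nat.card (Subgroup.zpowers c) ∣ 2 := fun c hc => by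
      rw [Nat.card_zpowers]; exact orderOf_dvd_of_pow_eq_one (by rw [pow_two, hc])
    have h1 : Nat.card A ∣ 2 * 2 :=
      (CfsgLib.Coprime.card_sup_dvd hle).trans (mul_dvd_mul (hd a ha) (hd b hb))
    exact Nat.Coprime.coprime_dvd_left h1
      (Nat.Coprime.mul_left (Nat.coprime_two_left.2 hK) (Nat.coprime_two_left.2 hK))
  obtain ⟨S, hS⟩ := CfsgLib.Coprime.exists_invariant_sylow A K hAK hcop
    (Or.inr (CfsgLib.PF.oddSolvable K hK)) 3
  set X := (S : Subgroup ↥K).map K.subtype with hX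
  have hXp : IsPGroup 3 X := S.isPGroup'.map _
  obtain ⟨P, hP⟩ := hXp.exists_le_sylow
  have hcomm : ∀ y ∈ X, ∀ z ∈ X, y * z = z * y := fun y hy z hz =>
    congrArg Subtype.val (h3 P ⟨y, hP hy⟩ ⟨z, hP hz⟩)
  have hnX : ∀ c ∈ A, ∀ y ∈ X, c * y * c⁻¹ ∈ X := fun c hc y hy =>
    CfsgLib.Coprime.mem_normalizer_conj (hS hc) hy
  have hpow : ∀ y ∈ X, ∃ j, y ^ (3 ^ j) = 1 := fun y hy => by
    obtain ⟨j, hj⟩ := hXp ⟨y, hy⟩
    exact ⟨j, congrArg Subtype.val hj⟩
  have hle : X ≤ K := Subgroup.map_subtype_le _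
  have haA : a ∈ A := Subgroup.mem_sup_left (Subgroup.mem_zpowers a)
  have hbA : b ∈ A := Subgroup.mem_sup_right (Subgroup.mem_zpowers b)
  have hinva : ∀ y ∈ X, a * y * a⁻¹ = y⁻¹ := by
    intro y hy
    have hmem := X.mul_mem hy (hnX a haA y hy)
    obtain ⟨j, hj⟩ := hpow _ hmem
    have e : y * (a * y * a⁻¹) = 1 := hfa _ (hle hmem) j hj (by
      show _ * a = a * _
      have hai : a⁻¹ = a := inv_eq_of_mul_eq_one_right ha
      calc y * (a * y * a⁻¹) * a = y * (a * y) := by group
        _ = a * (a * y * a⁻¹ * y) := by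
            rw [hai, show a * (a * y * a * y) = (a * a) * (y * a * y) by group, ha, one_mul,
              mul_assoc]
        _ = a * (y * (a * y * a⁻¹)) := by rw [hcomm _ (hnX a haA y hy) y hy])
    exact eq_inv_of_mul_eq_one_right e
  have hinvb : ∀ y ∈ X, b * y * b⁻¹ = y⁻¹ := by
    intro y hy
    have hmem := X.mul_mem hy (hnX b hbA y hy)
    obtain ⟨j, hj⟩ := hpow _ hmem
    have e : y * (b * y * b⁻¹) = 1 := hfb _ (hle hmem) j hj (by
      show _ * b = b * _
      have hbi : b⁻¹ = b := inv_eq_of_mul_eq_one_right hb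
      calc y * (b * y * b⁻¹) * b = y * (b * y) := by group
        _ = b * (b * y * b⁻¹ * y) := by
            rw [hbi, show b * (b * y * b * y) = (b * b) * (y * b * y) by group, hb, one_mul,
              mul_assoc]
        _ = b * (y * (b * y * b⁻¹)) := by rw [hcomm _ (hnX b hbA y hy) y hy]) (hinva _ hmem)
    exact eq_inv_of_mul_eq_one_right e
  have hone : ∀ y ∈ X, y = 1 := by
    intro y hy
    obtain ⟨j, hj⟩ := hpow y hy
    refine hfab y (hle hy) j hj ?_ (hinva y hy)
    show y * (a * b) = a * b * y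
    have e : a * b * y * (a * b)⁻¹ = y := by
      rw [show a * b * y * (a * b)⁻¹ = a * (b * y * b⁻¹) * a⁻¹ by group, hinvb y hy,
        hinva _ (X.inv_mem hy), inv_inv]
    calc y * (a * b) = a * b * y * (a * b)⁻¹ * (a * b) := by rw [e]
      _ = a * b * y := by group
  have h3K : 3 ∣ Nat.card K := hx3 ▸ Subgroup.orderOf_dvd_natCard K hx
  have hd : 3 ∣ Nat.card X := by
    rw [hX, Subgroup.card_map_of_injective K.subtype_injective]
    exact S.dvd_card_of_dvd_card h3K
  have : Nat.card X = 1 := Subgroup.card_eq_one.2 ((Subgroup.eq_bot_iff_forall _).2 hone)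
  omega

end General

variable {G : Type u} [Group G] {F : Type} [Field F] [Fintype F] [DecidableEq F]

namespace Setup

variable (D : Setup G F)

theorem q_facts (D : Setup G F) :
    Fintype.card F % 8 = 3 ∧ 27 ≤ Fintype.card F ∧ 5 ≤ Fintype.card F ∧ 3 ∣ Fintype.card F := by
  have h1 := CfsgLib.ReeType.three_pow_mod D.m
  have h2 : 27 ≤ 3 ^ (2 * D.m + 1) :=
    le_trans (by norm_num) (Nat.pow_le_pow_right (by norm_num) (show 3 ≤ 2 * D.m + 1 by
      have := D.one_le; omega))
  exact ⟨by rw [D.card_F, h1], by rw [D.card_F]; exact h2, by rw [D.card_F]; omega,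
    by rw [D.card_F]; exact dvd_pow_self 3 (by omega)⟩

theorem index_facts [Finite G] (D : Setup G F) :
    Nat.card (Subgroup.centralizer ({D.t} : Set G)) =
      Fintype.card F * ((Fintype.card F - 1) * (Fintype.card F + 1)) ∧
    (Subgroup.centralizer ({D.t} : Set G)).index =
      Fintype.card F ^ 2 * (Fintype.card F ^ 2 - Fintype.card F + 1) := by
  obtain ⟨h8, h27, -, -⟩ := D.q_facts
  have h20 : (2 : F) ≠ 0 := fun e => by
    have h : ((2 : ℕ) : F) = 0 := by exact_mod_cast e
    have hd : addOrderOf (1 : F) ∣ 2 := addOrderOf_dvd_of_nsmul_eq_zero (by rwa [nsmul_one])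
    have hd' : addOrderOf (1 : F) ∣ Nat.card F := addOrderOf_dvd_natCard _
    rw [Nat.card_eq_fintype_card] at hd'
    rcases (Nat.dvd_prime Nat.prime_two).1 hd with h1 | h1
    · exact one_ne_zero (AddMonoid.addOrderOf_eq_one_iff.1 h1)
    · rw [h1] at hd'
      omega
  have hC := D.E₀.card_cent_eq h20
  refine ⟨hC, ?_⟩
  have h := (Subgroup.centralizer ({D.t} : Set G)).card_mul_index
  rw [hC, D.card_G] at h
  set q := Fintype.card F
  refine Nat.eq_of_mul_eq_mul_left (show 0 < q * ((q - 1) * (q + 1)) from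
    Nat.mul_pos (by omega) (Nat.mul_pos (by omega) (by omega))) (h.trans ?_)
  have hq2 : q ≤ q ^ 2 := by rw [pow_two]; exact Nat.le_mul_of_pos_left q (by omega)
  have hR : q ^ 3 + 1 = (q + 1) * (q ^ 2 - q + 1) := by
    zify [hq2]
    ring
  rw [hR]
  ring

/-- The primes of `G` other than `2` and `3`. -/
theorem prime_cases [Finite G] (D : Setup G F) {r : ℕ} (hr : r.Prime) (h5 : 5 ≤ r)
    (hd : r ∣ Nat.card G) :
    r ∣ Fintype.card F ^ 2 - Fintype.card F + 1 ∨ r ∣ Fintype.card F - 1 ∨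
      r ∣ Fintype.card F + 1 := by
  obtain ⟨hC, hI⟩ := D.index_facts
  rw [← (Subgroup.centralizer ({D.t} : Set G)).card_mul_index, hC, hI] at hd
  have hq : ¬ r ∣ Fintype.card F := fun h => by
    rw [D.card_F] at h
    have := (Nat.prime_dvd_prime_iff_eq hr Nat.prime_three).1 (hr.dvd_of_dvd_pow h)
    omega
  rcases (Nat.Prime.dvd_mul hr).1 hd with h | h
  · rcases (Nat.Prime.dvd_mul hr).1 h with h | h
    · exact absurd h hq
    · rcases (Nat.Prime.dvd_mul hr).1 h with h | h
      · exact Or.inr (Or.inl h)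
      · exact Or.inr (Or.inr h)
  · rcases (Nat.Prime.dvd_mul hr).1 h with h | h
    · exact absurd (hr.dvd_of_dvd_pow h) hq
    · exact Or.inl h

/-- A prime `r ≥ 5` dividing `q ± 1` does not divide the index of an involution centralizer. -/
theorem not_dvd_index [Finite G] (D : Setup G F) {r : ℕ} (hr : r.Prime) (h5 : 5 ≤ r)
    (hd : r ∣ Fintype.card F - 1 ∨ r ∣ Fintype.card F + 1) :
    ¬ r ∣ (Subgroup.centralizer ({D.t} : Set G)).index := by
  obtain ⟨-, hI⟩ := D.index_facts
  obtain ⟨-, h27, -, -⟩ := D.q_facts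
  rw [hI]
  set q := Fintype.card F with hq
  intro h
  have hrq : ¬ r ∣ q := fun h' => by
    rw [hq, D.card_F] at h'
    have := (Nat.prime_dvd_prime_iff_eq hr Nat.prime_three).1 (hr.dvd_of_dvd_pow h')
    omega
  rcases (Nat.Prime.dvd_mul hr).1 h with h | h
  · exact hrq (hr.dvd_of_dvd_pow h)
  have hq2 : q ≤ q ^ 2 := by rw [pow_two]; exact Nat.le_mul_of_pos_left q (by omega)
  have hR : (r : ℤ) ∣ (q : ℤ) ^ 2 - q + 1 := by
    have := Int.natCast_dvd_natCast.2 h
    push_cast [Nat.cast_sub hq2] at this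
    exact this
  rcases hd with hd | hd
  · have h' : (r : ℤ) ∣ (q : ℤ) - 1 := by
      have := Int.natCast_dvd_natCast.2 hd
      push_cast [Nat.cast_sub (show 1 ≤ q by omega)] at this
      exact this
    have h1 : (r : ℤ) ∣ 1 := by
      have := dvd_sub hR (h'.mul_left (q : ℤ))
      simpa [mul_sub, pow_two] using this
    have := Int.le_of_dvd one_pos h1
    omega
  · have h' : (r : ℤ) ∣ (q : ℤ) + 1 := by exact_mod_cast Int.natCast_dvd_natCast.2 hd
    have h1 : (r : ℤ) ∣ 3 := by
      have := dvd_sub hR (h'.mul_left ((q : ℤ) - 2))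
      have e : (q : ℤ) ^ 2 - q + 1 - ((q : ℤ) - 2) * ((q : ℤ) + 1) = 3 := by ring
      rwa [e] at this
    have := Int.le_of_dvd (by norm_num) h1
    omega

/-- The centralizer data at any involution. -/
def cent (D : Setup G F) {v : G} (hv : orderOf v = 2) : CentData v F :=
  (D.E₀.exists_of_isConj (D.one_class v hv)).some

theorem two_group_comm [Finite G] (D : Setup G F) {U : Subgroup G} (hU : IsPGroup 2 U)
    {a b : G} (ha : a ∈ U) (hb : b ∈ U) : Commute a b := by
  obtain ⟨P, hP⟩ := hU.exists_le_sylow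
  exact congrArg Subtype.val (D.two_comm P ⟨a, hP ha⟩ ⟨b, hP hb⟩)

theorem three_group_comm [Finite G] (D : Setup G F) {U : Subgroup G} (hU : IsPGroup 3 U)
    {a b : G} (ha : a ∈ U) (hb : b ∈ U) : Commute a b := by
  obtain ⟨P, hP⟩ := hU.exists_le_sylow
  exact congrArg Subtype.val (D.three_comm P ⟨a, hP ha⟩ ⟨b, hP hb⟩)

/-- An element of order `r ∣ q² - 1`, `r ≥ 5`, commutes with an involution. -/
theorem exists_commuting [Finite G] (D : Setup G F) {r : ℕ} (hr : r.Prime) (h5 : 5 ≤ r)
    (hd : r ∣ Fintype.card F - 1 ∨ r ∣ Fintype.card F + 1) {u : G} (hu : orderOf u = r) :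
    ∃ v : G, orderOf v = 2 ∧ Commute u v := by
  have : Fact r.Prime := ⟨hr⟩
  obtain ⟨g, hg⟩ := CfsgLib.SL2Tori.exists_conj_mem_of_index
    (IsPGroup.of_card (n := 1) (by rw [Nat.card_zpowers, hu, pow_one]) :
      IsPGroup r (Subgroup.zpowers u)) (D.not_dvd_index hr h5 hd)
  refine ⟨g * D.t * g⁻¹, by rw [← MulAut.conj_apply, MulEquiv.orderOf_eq, D.E₀.orderOf_s], ?_⟩
  have h : Commute (g⁻¹ * u * g) D.t :=
    Subgroup.mem_centralizer_singleton_iff.1 (hg u (Subgroup.mem_zpowers u))
  simpa [mul_assoc] using h.map (MulAut.conj g).toMonoidHom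

end Setup

/-! ### Elements of the centralizer of an involution -/

section Cent

variable {v : G} (E : CentData v F)

/-- The projection of an element commuting with the involution. -/
def kap {a : G} (ha : Commute a v) : Matrix.ProjectiveSpecialLinearGroup (Fin 2) F :=
  E.kappa ⟨a, Subgroup.mem_centralizer_singleton_iff.2 ha.eq⟩

theorem kap_congr {a b : G} (ha : Commute a v) (hb : Commute b v) (h : a = b) :
    kap E ha = kap E hb := by subst h; rfl

theorem kap_mul {a b : G} (ha : Commute a v) (hb : Commute b v) :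
    kap E (ha.mul_left hb) = kap E ha * kap E hb :=
  map_mul E.kappa ⟨a, _⟩ ⟨b, _⟩

theorem kap_inv {a : G} (ha : Commute a v) : kap E ha.inv_left = (kap E ha)⁻¹ :=
  map_inv E.kappa ⟨a, _⟩

theorem kap_pow {a : G} (ha : Commute a v) (n : ℕ) : kap E (ha.pow_left n) = kap E ha ^ n :=
  map_pow E.kappa ⟨a, _⟩ n

theorem kap_commute {a b : G} (ha : Commute a v) (hb : Commute b v) (h : Commute a b) :
    Commute (kap E ha) (kap E hb) := by
  have h' : Commute (⟨a, Subgroup.mem_centralizer_singleton_iff.2 ha.eq⟩ :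
      Subgroup.centralizer ({v} : Set G)) ⟨b, Subgroup.mem_centralizer_singleton_iff.2 hb.eq⟩ :=
    Subtype.ext h.eq
  exact h'.map E.kappa

theorem kap_self : kap E (Commute.refl v) = 1 := E.kappa_self

theorem eq_up_of_odd {a : G} (ha : Commute a v) (ho : Odd (orderOf a)) : a = E.up (kap E ha) := by
  rcases E.elt_cases ⟨a, Subgroup.mem_centralizer_singleton_iff.2 ha.eq⟩ with e | e
  · exact e
  · exfalso
    set k := kap E ha with hk
    have hvv : v ^ 2 = 1 := by rw [← E.orderOf_s, pow_orderOf_eq_one]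
    obtain ⟨j, hj⟩ := ho
    have h1 : a ^ (2 * j + 1) = 1 := by rw [← hj, pow_orderOf_eq_one]
    have h2 : a = v * E.up k := e
    rw [h2, ((E.up_commute k).symm).mul_pow, pow_succ, pow_mul, hvv, one_pow, one_mul,
      mul_eq_one_iff_eq_inv, ← map_pow, ← map_inv] at h1
    have h3 := E.kappa_up (k ^ (2 * j + 1))⁻¹
    have h4 : (1 : Matrix.ProjectiveSpecialLinearGroup (Fin 2) F) = (k ^ (2 * j + 1))⁻¹ := by
      rw [← E.kappa_self, ← h3]
      exact congrArg E.kappa (Subtype.ext h1)
    rw [← h4, map_one] at h1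
    have := E.orderOf_s
    rw [h1, orderOf_one] at this
    omega

theorem orderOf_kap {a : G} (ha : Commute a v) (ho : Odd (orderOf a)) :
    orderOf (kap E ha) = orderOf a := by
  nth_rw 2 [eq_up_of_odd E ha ho]
  rw [orderOf_injective _ E.up_injective]

/-- An element commuting with the involution whose image is trivial. -/
theorem eq_of_kap_one {a : G} (ha : Commute a v) (h : kap E ha = 1) : a = 1 ∨ a = v :=
  E.eq_one_or_self ha h

end Cent

end CfsgLib.ReeAbelian
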